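import Cfsg.Agent.H417.DegMTwelve

/-!
# The numerical data of `M₁₂` with the elements which belong to them (helper436)

`exists_pre`, `exists_data` : for a simple group of order 95040, `y` of order 5 and an involution `t` which commutes
with `y`, the numerical data `MTwelve.DegreeEleven.Ctx` with `v = ψ(y)`, `w = ψ(t y)`, `s = ψ(t)`.
-/

set_option autoImplicit false
set_option linter.unusedSectionVars false

open scoped ComplexConjugate
open Cfsg

namespace Cfsg.Agent.H436.M23.Ct

open Subgroup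
open Cfsg.Agent.Characters
open Cfsg.Agent.SmallSimple
open Cfsg.Agent.SmallSimple.PrimeLocal
open Cfsg.Agent.MTwelve
open Cfsg.Agent.MTwelve.BlockData
open Cfsg.Agent.MTwelve.FiveBlock
open Cfsg.Agent.MTwelve.FiveLocal
open Cfsg.Agent.MTwelve.DegreeEleven
open Cfsg.Agent.MTwelve.DegreeElevenMain
open Cfsg.Agent.MTwelve.Assembly5

universe u

variable {G : Type u} [Group G]

/-- The numerical data exist (the proof is that of `H417.DegMTwelve.exists_ctx`, which keeps less information). -/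
theorem exists_pre [Fintype G] [Fintype (IrrCharacter G)] [IsSimpleGroup G] (hc : Nat.card G = 95040)
    (h11 : ∀ P : Sylow 11 G, centralizer (P : Set G) = (P : Subgroup G))
    (hN : ∀ P : Sylow 11 G, Nat.card (normalizer (P : Set G)) = 55) :
    ∃ (C : Ctx (IrrCharacter G)) (R : Sylow 11 G) (B : PBlock G 11 5 2 (R : Subgroup G)) (y t : G),
      (∀ z : G, orderOf z = 5 → IsConj y z) ∧ orderOf y = 5 ∧ orderOf t = 2 ∧ Commute y t ∧
      Nat.card (centralizer ({y} : Set G)) = 10 ∧ C.deg = deg ∧ C.o = triv G ∧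
      (∀ ψ : IrrCharacter G, (ψ : G → ℂ) y = C.v ψ) ∧ (∀ ψ : IrrCharacter G, (ψ : G → ℂ) (y * t) = C.w ψ) ∧
      (∀ ψ : IrrCharacter G, (ψ : G → ℂ) t = C.s ψ) ∧
      (∀ ψ : IrrCharacter G, ψ ∈ B.NE ↔ ψ = C.o ∨ ψ = C.c120 ∨ ψ = C.c54 ∨ ψ = C.c45 ∨ ψ = C.c144) ∧
      (∀ ψ : IrrCharacter G, ψ ∈ B.X ↔ ψ = C.th ∨ ψ = C.th') ∧
      B.ε C.c120 = -1 ∧ B.ε C.c54 = -1 ∧ B.ε C.c45 = 1 ∧ B.ε C.c144 = 1 ∧ B.d = 1 := by
  classical
  have hf11 : Fact (Nat.Prime 11) := ⟨by norm_num⟩
  have hf5 : Fact (Nat.Prime 5) := ⟨by norm_num⟩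
  have hG : commutator G = ⊤ := SmallDegree.commutator_eq_top_of_card (by rw [hc]; norm_num)
  obtain ⟨R⟩ : Nonempty (Sylow 11 G) := inferInstance
  obtain ⟨Q, hQR⟩ := exists_sylow_five hc R (hN R)
  have hR := card_eleven hc R
  have hQ := card_five hc Q
  obtain ⟨B, B5, K, χ, z, hloc, hK, hM⟩ := Final.family hc h11 R (hN R) Q
  have h0 : B.ε (χ 0) * (deg (χ 0) : ℤ) = -120 := hM.deg 0
  have h1 : B.ε (χ 1) * (deg (χ 1) : ℤ) = -54 := hM.deg 1
  have h2 : B.ε (χ 2) * (deg (χ 2) : ℤ) = 45 := hM.deg 2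
  have h3 : B.ε (χ 3) * (deg (χ 3) : ℤ) = 144 := hM.deg 3
  have hmem : ∀ i, χ i ∈ B.NE := fun i => (hM.mem _).2 (Or.inr ⟨i, rfl⟩)
  have d120 : deg (χ 0) = 120 := by
    rcases B.ε_eq (χ 0) (hmem 0) with h | h <;> rw [h] at h0 <;> omega
  have hε1 : B.ε (χ 1) = -1 := by
    rcases B.ε_eq (χ 1) (hmem 1) with h | h
    · rw [h] at h1; omega
    · exact h
  have d54 : deg (χ 1) = 54 := by rw [hε1] at h1; omega
  have d45 : deg (χ 2) = 45 := by
    rcases B.ε_eq (χ 2) (hmem 2) with h | h <;> rw [h] at h2 <;> omega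
  have d144 : deg (χ 3) = 144 := by
    rcases B.ε_eq (χ 3) (hmem 3) with h | h <;> rw [h] at h3 <;> omega
  have hone11 : ¬ 11 ∣ orderOf (1 : G) := by rw [orderOf_one]; norm_num
  have hone5 : ¬ 5 ∣ orderOf (1 : G) := by rw [orderOf_one]; norm_num
  -- the exceptional characters
  have dX : ∀ Θ ∈ B.X, deg Θ = 16 := by
    intro Θ hΘ
    have h4 := hM.theta_deg hc hΘ
    have h6 : (1 : ℤ) + ![-120, -54, 45, 144] 0 + ![-120, -54, 45, 144] 1 +
      ![-120, -54, 45, 144] 2 + ![-120, -54, 45, 144] 3 = 16 := by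
      show (1 : ℤ) + -120 + -54 + 45 + 144 = 16
      norm_num
    rw [h6] at h4
    rcases B.d_eq with h | h <;> rw [h] at h4 <;> omega
  obtain ⟨th, th', hne, hX⟩ := Finset.card_eq_two.1 B.card_X
  have hthX : th ∈ B.X := by rw [hX]; simp
  have hthX' : th' ∈ B.X := by rw [hX]; simp
  -- an element of order eleven
  have hnt : Nontrivial (R : Subgroup G) := by
    rw [← Finite.one_lt_card_iff_nontrivial, hR]; norm_num
  obtain ⟨x, hx1⟩ := exists_ne (1 : (R : Subgroup G))
  have hx1' : (x : G) ≠ 1 := fun h => hx1 (Subtype.ext h)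
  have hinv : ¬ IsConj (x : G) (x : G)⁻¹ := by
    intro h
    obtain ⟨u, hu⟩ := isConj_iff.1 h
    exact InvolColumn.conj_ne_inv_of_odd (Final.relIndex_eleven hc h11 R (hN R)) (by decide)
      (InvolColumn.zpowers_eq_of_card_prime (by norm_num) hR) (by rw [hR]; decide) x.2 hx1' u hu
  -- |K| = 2
  have h3K : ¬ 3 ∣ Nat.card K := by
    refine not_three_dvd hc (R : Subgroup G) hR (h11 R) Q hQR hloc (χ 1).2
      (by rw [apply_one, d54]; norm_num) ?_
    intro x hx hx1
    have h4 := B.apply_NE (χ 1) (hmem 1) x hx hx1 1 (one_mem _) hone11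
    rw [mul_one, hε1] at h4
    rw [h4]
    norm_num
  have hK2 : Nat.card K = 2 := by
    rcases hK with h | h | h
    · exact h
    · rw [h] at h3K; norm_num at h3K
    · rw [h] at h3K; norm_num at h3K
  -- elements of order five and two
  have hnt5 : Nontrivial (Q : Subgroup G) := by
    rw [← Finite.one_lt_card_iff_nontrivial, hQ]; norm_num
  obtain ⟨y, hy1⟩ := exists_ne (1 : (Q : Subgroup G))
  have hy1' : (y : G) ≠ 1 := fun h => hy1 (Subtype.ext h)
  obtain ⟨t, hyt⟩ := exists_yt Q hQ hloc hK2 y.2 hy1'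
  have ht2 : t ^ 2 = 1 := by rw [← hyt.t_ord]; exact pow_orderOf_eq_one t
  have hty5 : ¬ 5 ∣ orderOf t := by rw [hyt.t_ord]; norm_num
  -- the principal 5-block
  have hpool := FiveBlock.deg_mem_pool hc hR B fun ψ h1 h2 => (hM.rest ψ h1 h2).2
  obtain ⟨c, cinj, cne, -, cval, crel, ccases⟩ := exists_five B5 hQ hpool
  -- the set of all irreducible characters
  have := Core.finite_irr (G := G)
  have hs : ∀ ψ : IrrCharacter G, ∃ s : ℤ, (ψ : G → ℂ) t = s ∧ (4 : ℤ) ∣ deg ψ - s := by
    intro ψ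
    obtain ⟨k, hk⟩ := SmallDegree.character_eq_add_four_mul hG (Core.isIrr_isCharacter ψ.2) ht2
    refine ⟨deg ψ - 4 * k, ?_, ⟨k, by ring⟩⟩
    rw [apply_one] at hk
    push_cast
    rw [hk]
    ring
  choose s hs1 hs2 using hs
  have hvw : ∀ ψ : IrrCharacter G, ∃ v w : ℤ, (ψ : G → ℂ) y = v ∧ (ψ : G → ℂ) (y * t) = w ∧
      (5 : ℤ) ∣ deg ψ - v ∧ (5 : ℤ) ∣ s ψ - w := fun ψ =>
    hyt.exists_int (Core.isIrr_isCharacter ψ.2) (by rw [apply_one]; norm_cast) (hs1 ψ)
  choose v w hv1 hw1 hv5 hw5 using hvw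
  have hν : ∀ ψ : IrrCharacter G, ∃ n : ℤ, (n = 0 ∨ n = 1 ∨ n = -1) ∧
      (Nat.card G : ℂ)⁻¹ * ∑ s : G, (ψ : G → ℂ) (s * s) = n ∧
      (n = 0 ↔ ∃ g, ((ψ : G → ℂ) g).im ≠ 0) := fun ψ =>
    CharactersDeep.FeitOddAux.exists_indicator ψ.2
  choose ν hν1 hν2 hν3 using hν
  have hdeg1 : ∀ ψ : IrrCharacter G, (ψ : G → ℂ) 1 = ((deg ψ : ℤ) : ℂ) := fun ψ => by
    rw [apply_one]; norm_cast
  have hndvd : ∀ a b : G, orderOf a ≠ orderOf b → ¬ IsConj a b := by
    intro a b hab h
    obtain ⟨g, rfl⟩ := isConj_iff.1 h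
    apply hab
    rw [← MulAut.conj_apply]
    exact (orderOf_injective (MulAut.conj g).toMonoidHom (MulAut.conj g).injective a).symm
  have hyto : orderOf ((y : G) * t) = 10 := by
    rw [(show Commute (y : G) t from hyt.comm).orderOf_mul_eq_mul_orderOf_of_coprime
      (by rw [hyt.y_ord, hyt.t_ord]; norm_num), hyt.y_ord, hyt.t_ord]
  -- the numerical data
  let C : Ctx (IrrCharacter G) :=
    { deg := deg
      v := v
      w := w
      s := s
      ν := ν
      cj := fun ψ => ⟨fun g => conj ((ψ : G → ℂ) g), Core.isIrr_conj ψ.2⟩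
      o := triv G
      c45 := χ 2
      c54 := χ 1
      c120 := χ 0
      c144 := χ 3
      th := th
      th' := th'
      c := c
      deg_o := deg_triv
      hpool := hpool
      d45 := d45
      d54 := d54
      d120 := d120
      d144 := d144
      dth := dX _ hthX
      dth' := dX _ hthX'
      th_ne := hne
      rest := by
        intro ψ
        by_cases h4 : ψ ∈ B.NE
        · rcases (hM.mem ψ).1 h4 with h5 | ⟨i, h5⟩
          · exact Or.inl h5
          · subst h5
            fin_cases i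
            · exact Or.inr (Or.inr (Or.inr (Or.inl rfl)))
            · exact Or.inr (Or.inr (Or.inl rfl))
            · exact Or.inr (Or.inl rfl)
            · exact Or.inr (Or.inr (Or.inr (Or.inr (Or.inl rfl))))
        · by_cases h5 : ψ ∈ B.X
          · rw [hX, Finset.mem_insert, Finset.mem_singleton] at h5
            rcases h5 with h5 | h5
            · exact Or.inr (Or.inr (Or.inr (Or.inr (Or.inr (Or.inl h5)))))
            · exact Or.inr (Or.inr (Or.inr (Or.inr (Or.inr (Or.inr (Or.inl h5))))))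
          · exact Or.inr (Or.inr (Or.inr (Or.inr (Or.inr (Or.inr (Or.inr
              (hM.rest ψ h4 h5).2))))))
      v_o := by
        have h4 := hv1 (triv G)
        rw [triv_apply] at h4
        exact_mod_cast h4.symm
      w_o := by
        have h4 := hw1 (triv G)
        rw [triv_apply] at h4
        exact_mod_cast h4.symm
      s_o := by
        have h4 := hs1 (triv G)
        rw [triv_apply] at h4
        exact_mod_cast h4.symm
      dvd_v := hv5
      dvd_w := hw5
      dvd_s := hs2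
      sum_dd := by
        have h4 := sum_deg_sq (G := G)
        rw [hc] at h4
        have h5 : ((∑ ψ : IrrCharacter G, deg ψ ^ 2 : ℕ) : ℤ) = 95040 := by rw [h4]; rfl
        rw [← h5]
        push_cast
        exact Finset.sum_congr rfl fun ψ _ => by ring
      sum_vv := by
        rw [sum_mul_of_isConj hv1 hv1 (IsConj.refl _), hyt.card_cy]
        rfl
      sum_ww := by
        rw [sum_mul_of_isConj hw1 hw1 (IsConj.refl _), hyt.card_cyt]
        rfl
      sum_vw := sum_mul_of_not_isConj hv1 hw1 (hndvd _ _ (by rw [hyt.y_ord, hyto]; norm_num))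
      sum_vd := sum_mul_of_not_isConj hv1 hdeg1
        (hndvd _ _ (by rw [hyt.y_ord, orderOf_one]; norm_num))
      sum_vs := sum_mul_of_not_isConj hv1 hs1
        (hndvd _ _ (by rw [hyt.y_ord, hyt.t_ord]; norm_num))
      col := by
        rcases column_cases hc h11 hM hyt with ⟨h4, h5, h6, h7⟩ | h4
        · left
          refine ⟨?_, ?_, ?_, ?_⟩
          · have h8 := hs1 (χ 1)
            rw [h6] at h8
            exact_mod_cast h8.symm
          · have h8 := hs1 (χ 3)
            rcases h7 with h7 | h7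
            · left
              rw [h7] at h8
              exact_mod_cast h8.symm
            · right
              rw [h7] at h8
              exact_mod_cast h8.symm
          · rw [sum_mul_of_isConj hs1 hs1 (IsConj.refl _)]
            exact_mod_cast h4
          · rw [sum_indicator hν2]
            have h8 := card_sq_roots hc hyt.t_ord hM.order h4 (by rw [hM.card]) h5
            exact_mod_cast h8
        · right
          have h8 := hs1 th
          rw [h4 th hthX] at h8
          exact_mod_cast h8.symm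
      c_inj := cinj
      c_ne := cne
      c_v := by
        intro i
        have h4 := cval i y y.2 hy1' 1 (one_mem _) hone5
        rw [mul_one, hv1] at h4
        exact_mod_cast h4
      c_w := by
        intro i
        have h4 := cval i y y.2 hy1' t hyt.t_mem hty5
        rw [hw1] at h4
        exact_mod_cast h4
      rel_d := by
        have h4 := crel 1 hone5
        rw [Finset.sum_congr rfl fun i _ => by rw [hdeg1 (c i)]] at h4
        exact_mod_cast h4
      rel_s := by
        have h4 := crel t hty5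
        rw [Finset.sum_congr rfl fun i _ => by rw [hs1 (c i)]] at h4
        exact_mod_cast h4
      cases := ccases
      cj_deg := by
        intro ψ
        apply deg_eq_of
        show conj ((ψ : G → ℂ) 1) = _
        rw [apply_one, Complex.conj_natCast]
      cj_v := by
        intro ψ
        have h4 := hv1 ⟨fun g => conj ((ψ : G → ℂ) g), Core.isIrr_conj ψ.2⟩
        change conj ((ψ : G → ℂ) y) = _ at h4
        rw [hv1, map_intCast] at h4
        exact_mod_cast h4.symm
      cj_w := by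
        intro ψ
        have h4 := hw1 ⟨fun g => conj ((ψ : G → ℂ) g), Core.isIrr_conj ψ.2⟩
        change conj ((ψ : G → ℂ) (y * t)) = _ at h4
        rw [hw1, map_intCast] at h4
        exact_mod_cast h4.symm
      ν_le := by
        intro ψ
        rcases hν1 ψ with h | h | h <;> rw [h] <;> norm_num
      ν_th := (hν3 th).2 ⟨x, exc_im_ne B (fun ψ h4 h5 => (hM.rest ψ h4 h5).1) x.2 hx1' hinv hthX⟩
      ν_th' := (hν3 th').2
        ⟨x, exc_im_ne B (fun ψ h4 h5 => (hM.rest ψ h4 h5).1) x.2 hx1' hinv hthX'⟩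
      ν_cj := by
        intro ψ hψ
        rw [hν3]
        by_contra h4
        push Not at h4
        apply hψ
        apply Subtype.ext
        funext g
        exact Complex.conj_eq_iff_im.2 (h4 g) }
  have he120 : B.ε (χ 0) = -1 := by
    rcases B.ε_eq (χ 0) (hmem 0) with h | h
    · rw [h] at h0; omega
    · exact h
  have he45 : B.ε (χ 2) = 1 := by
    rcases B.ε_eq (χ 2) (hmem 2) with h | h
    · exact h
    · rw [h] at h2; omega
  have he144 : B.ε (χ 3) = 1 := by
    rcases B.ε_eq (χ 3) (hmem 3) with h | h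
    · exact h
    · rw [h] at h3; omega
  have hd : B.d = 1 := by
    have h4 := hM.theta_deg hc hthX
    have h6 : (1 : ℤ) + ![-120, -54, 45, 144] 0 + ![-120, -54, 45, 144] 1 +
      ![-120, -54, 45, 144] 2 + ![-120, -54, 45, 144] 3 = 16 := by
      show (1 : ℤ) + -120 + -54 + 45 + 144 = 16
      norm_num
    rw [h6] at h4
    rcases B.d_eq with h | h
    · exact h
    · rw [h] at h4; omega
  refine ⟨C, R, B, y, t, fun z hz => Final.isConj_five hc hloc y z hyt.y_ord hz, hyt.y_ord, hyt.t_ord, hyt.comm,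
    hyt.card_cy, rfl, rfl, hv1, hw1, hs1, ?_, ?_, he120, hε1, he45, he144, hd⟩
  · intro ψ
    rw [hM.mem ψ]
    constructor
    · rintro (h | ⟨i, h⟩)
      · exact Or.inl h
      · subst h
        fin_cases i
        · exact Or.inr (Or.inl rfl)
        · exact Or.inr (Or.inr (Or.inl rfl))
        · exact Or.inr (Or.inr (Or.inr (Or.inl rfl)))
        · exact Or.inr (Or.inr (Or.inr (Or.inr rfl)))
    · rintro (h | h | h | h | h)
      · exact Or.inl h
      · exact Or.inr ⟨0, h.symm⟩
      · exact Or.inr ⟨1, h.symm⟩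
      · exact Or.inr ⟨2, h.symm⟩
      · exact Or.inr ⟨3, h.symm⟩
  · intro ψ
    rw [hX, Finset.mem_insert, Finset.mem_singleton]


/-- the involution in a group of order 10 with a central element of order 5 is unique -/
theorem invol_eq [Finite G] {y t s : G} (hy : orderOf y = 5) (ht : orderOf t = 2) (hs : orderOf s = 2)
    (hyt : Commute y t) (hys : Commute y s) (hC : Nat.card (centralizer ({y} : Set G)) = 10) : s = t := by
  have h10 : orderOf (y * t) = 10 := by
    rw [hyt.orderOf_mul_eq_mul_orderOf_of_coprime (by rw [hy, ht]; norm_num), hy, ht]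
  have h1 : zpowers (y * t) = centralizer ({y} : Set G) := by
    refine eq_of_le_of_card_ge ?_ ?_
    · rw [zpowers_le, mem_centralizer_singleton_iff]
      exact ((Commute.refl y).mul_right hyt).symm.eq
    · rw [hC, Nat.card_zpowers, h10]
  have h2 : s ∈ zpowers (y * t) := by
    rw [h1, mem_centralizer_singleton_iff]
    exact hys.symm.eq
  obtain ⟨k, hk⟩ := mem_powers_iff_mem_zpowers.2 h2
  have hk : (y * t) ^ k = s := hk
  have h3 : (y * t) ^ (k * 2) = 1 := by rw [pow_mul, hk, ← hs, pow_orderOf_eq_one]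
  have h4 : 10 ∣ k * 2 := by rw [← h10]; exact orderOf_dvd_of_pow_eq_one h3
  have h5 : 5 ∣ k := by omega
  obtain ⟨m, rfl⟩ := h5
  have h6 : s = t ^ (5 * m) := by
    rw [← hk, hyt.mul_pow, pow_mul y, ← hy, pow_orderOf_eq_one, one_pow, one_mul]
  have h7 : t ^ 5 = t := by
    have h8 : t ^ 2 = 1 := by rw [← ht, pow_orderOf_eq_one]
    rw [show 5 = 2 * 2 + 1 by norm_num, pow_succ, pow_mul, h8, one_pow, one_mul]
  rw [pow_mul, h7] at h6
  rcases Nat.even_or_odd m with ⟨n, hn⟩ | ⟨n, hn⟩
  · exfalso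
    have h8 : s = 1 := by
      rw [h6, hn, ← two_mul, pow_mul, ← ht, pow_orderOf_eq_one, one_pow]
    rw [h8, orderOf_one] at hs
    norm_num at hs
  · rw [h6, hn, pow_succ, pow_mul, ← ht, pow_orderOf_eq_one, one_pow, one_mul]

/-- The numerical data for given `y` and `t`. -/
theorem exists_data [Fintype G] [Fintype (IrrCharacter G)] [IsSimpleGroup G] (hc : Nat.card G = 95040)
    (h11 : ∀ P : Sylow 11 G, centralizer (P : Set G) = (P : Subgroup G))
    (hN : ∀ P : Sylow 11 G, Nat.card (normalizer (P : Set G)) = 55) {y t : G} (hy : orderOf y = 5)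
    (ht : orderOf t = 2) (hyt : Commute t y) :
    ∃ (C : Ctx (IrrCharacter G)) (R : Sylow 11 G) (B : PBlock G 11 5 2 (R : Subgroup G)),
      (∀ z : G, orderOf z = 5 → IsConj y z) ∧ Nat.card (centralizer ({y} : Set G)) = 10 ∧
      C.deg = deg ∧ C.o = triv G ∧
      (∀ ψ : IrrCharacter G, (ψ : G → ℂ) y = C.v ψ) ∧ (∀ ψ : IrrCharacter G, (ψ : G → ℂ) (t * y) = C.w ψ) ∧
      (∀ ψ : IrrCharacter G, (ψ : G → ℂ) t = C.s ψ) ∧
      (∀ ψ : IrrCharacter G, ψ ∈ B.NE ↔ ψ = C.o ∨ ψ = C.c120 ∨ ψ = C.c54 ∨ ψ = C.c45 ∨ ψ = C.c144) ∧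
      (∀ ψ : IrrCharacter G, ψ ∈ B.X ↔ ψ = C.th ∨ ψ = C.th') ∧
      B.ε C.c120 = -1 ∧ B.ε C.c54 = -1 ∧ B.ε C.c45 = 1 ∧ B.ε C.c144 = 1 ∧ B.d = 1 := by
  obtain ⟨C, R, B, y', t', h1, h2, h3, h4, h5, h6, h7, h8, h9, h10, h12, h13, h14, h15, h16, h17, h18⟩ :=
    exists_pre hc h11 hN
  obtain ⟨g, hg⟩ := isConj_iff.1 (h1 y hy)
  have hcard : Nat.card (centralizer ({y} : Set G)) = 10 := by
    rw [← h5]
    refine Nat.card_congr ((MulAut.conj g⁻¹).toEquiv.subtypeEquiv fun a => ?_)
    rw [mem_centralizer_singleton_iff, mem_centralizer_singleton_iff]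
    have e : ∀ a : G, (MulAut.conj g⁻¹).toEquiv a = g⁻¹ * a * g := fun a => by
      change g⁻¹ * a * g⁻¹⁻¹ = _
      rw [inv_inv]
    rw [e]
    have e2 : y' = g⁻¹ * y * g := by rw [← hg]; group
    rw [e2]
    constructor
    · intro h
      calc g⁻¹ * a * g * (g⁻¹ * y * g) = g⁻¹ * (a * y) * g := by group
        _ = g⁻¹ * (y * a) * g := by rw [h]
        _ = g⁻¹ * y * g * (g⁻¹ * a * g) := by group
    · intro h
      have h' : g⁻¹ * (a * y) * g = g⁻¹ * (y * a) * g := by
        calc g⁻¹ * (a * y) * g = g⁻¹ * a * g * (g⁻¹ * y * g) := by group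
          _ = g⁻¹ * y * g * (g⁻¹ * a * g) := h
          _ = g⁻¹ * (y * a) * g := by group
      exact mul_left_cancel (mul_right_cancel h')
  have ht' : orderOf (g * t' * g⁻¹) = 2 := by
    rw [← h3]
    exact MulEquiv.orderOf_eq (MulAut.conj g) t'
  have hcomm : Commute y (g * t' * g⁻¹) := by
    rw [← hg]
    have := h4.eq
    change g * y' * g⁻¹ * (g * t' * g⁻¹) = g * t' * g⁻¹ * (g * y' * g⁻¹)
    calc g * y' * g⁻¹ * (g * t' * g⁻¹) = g * (y' * t') * g⁻¹ := by group
      _ = g * (t' * y') * g⁻¹ := by rw [this]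
      _ = g * t' * g⁻¹ * (g * y' * g⁻¹) := by group
  have htt : t = g * t' * g⁻¹ := invol_eq hy ht' ht hcomm hyt.symm hcard
  refine ⟨C, R, B, fun z hz => (isConj_iff.2 ⟨g, hg⟩ : IsConj y' y).symm.trans (h1 z hz), hcard, h6, h7, ?_, ?_, ?_,
    h12, h13, h14, h15, h16, h17, h18⟩
  · intro ψ
    rw [← hg, Core.isIrr_isClassFunction ψ.2, h8]
  · intro ψ
    have e : t * y = g * (y' * t') * g⁻¹ := by
      rw [hyt.eq, htt, ← hg]
      group
    rw [e, Core.isIrr_isClassFunction ψ.2, h9]
  · intro ψ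
    rw [htt, Core.isIrr_isClassFunction ψ.2, h10]

end Cfsg.Agent.H436.M23.Ct
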