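import Cfsg.Prelude.Def_Blocks
import Cfsg.Prelude.Def_Spor_Mathieu

/-!
# (M,23) of S4929, field `Sec11`: the interface between the Monster and `M₁₂` (helper436)

`x` of order `11` in the Monster, `C(x) = ⟨x⟩ × L`, `L = M₁₂`, `X` a real irreducible character, `f l = X (x l)`
(`l` in `L`).  `ElevenBase` : what the Monster side gives for `f`; `SecA`, `SecB` : the two cases
(`X` in the principal `11`-block or not); `OutA`, `OutB` : what the `M₁₂` side gives back.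
-/

set_option autoImplicit false

open Cfsg
open scoped ComplexConjugate

namespace Cfsg.Agent.H436.M23

universe u

/-- The norm of a function on the `11`-regular elements, times `11`. -/
noncomputable def reg11 (L : Type u) [Group L] [Fintype L] (f : L → ℂ) : ℂ := by
  classical
  exact 11 * ((Nat.card L : ℂ)⁻¹ * ∑ l : L with ¬ 11 ∣ orderOf l, f l * conj (f l))

/-- The part common to the two cases: `y` of order `5`, `t` an involution commuting with `y`. -/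
structure ElevenBase (L : Type u) [Group L] [Fintype L] (f : L → ℂ) (c : ℤ) (y t : L) : Prop where
  cls : IsClassFunction L f
  oy : orderOf y = 5
  ot : orderOf t = 2
  comm : Commute t y
  hc : c = 1 ∨ c = -1
  vy : f y = c
  vty : f (t * y) = c
  int : ∀ Φ : L → ℂ, IsCharacter L Φ → (∀ (σ : L ≃* L) (l : L), Φ (σ l) = Φ l) → ∃ a : ℤ, classInner f Φ = a

/-- Case A: `X` in the principal `11`-block. -/
def SecA (L : Type u) [Group L] [Fintype L] (f : L → ℂ) : Prop :=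
  ∀ lam : IrrCharacter L, 11 ∣ charDegree (lam : L → ℂ) → classInner f (lam : L → ℂ) = 0

/-- Case B: `X` not in the principal `11`-block. -/
structure SecB (L : Type u) [Group L] [Fintype L] (f : L → ℂ) : Prop where
  reg : ∀ l : L, ¬ 11 ∣ orderOf l → f l =
    ∑ᶠ lam ∈ {lam : IrrCharacter L | 11 ∣ charDegree (lam : L → ℂ)}, classInner f (lam : L → ℂ) * (lam : L → ℂ) l
  one : ∀ lam : IrrCharacter L, 11 ∣ charDegree (lam : L → ℂ) →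
    (∀ (σ : L ≃* L) (l : L), (lam : L → ℂ) (σ l) = (lam : L → ℂ) l) → classInner f (lam : L → ℂ) ≠ 0 →
    ∃ e : ℤ, (e = 1 ∨ e = -1) ∧ ∀ l : L, ¬ 11 ∣ orderOf l → f l = e * (lam : L → ℂ) l

/-- `11` times the norm of `a₁ φ₁ + a₂ φ₅₃ + a₃ φ₉₁ + a₄ φ₂₉ + a₅ φ₁₆` (as in `H924.M23.N11`). -/
def N11 (a₁ a₂ a₃ a₄ a₅ : ℤ) : ℤ :=
  9 * a₁ ^ 2 + 14 * a₂ ^ 2 + 15 * a₃ ^ 2 + 12 * a₄ ^ 2 + 5 * a₅ ^ 2 - 14 * a₁ * a₂ + 10 * a₁ * a₃ - 6 * a₁ * a₄
    + 2 * a₁ * a₅ - 20 * a₂ * a₃ + 12 * a₂ * a₄ - 4 * a₂ * a₅ - 18 * a₃ * a₄ + 6 * a₃ * a₅ - 8 * a₄ * a₅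

/-- The result in case A. -/
def OutA (L : Type u) [Group L] [Fintype L] (f : L → ℂ) (c : ℤ) (t : L) : Prop :=
  ∃ a₁ a₂ a₃ a₄ a₅ : ℤ, a₁ - 2 * a₂ + a₃ - a₄ + a₅ = c ∧ a₁ - a₃ + a₄ - a₅ = c ∧
    f 1 = ((a₁ + 53 * a₂ + 91 * a₃ + 29 * a₄ + 16 * a₅ : ℤ) : ℂ) ∧
    f t = ((a₁ + 5 * a₂ - a₃ + a₄ + 4 * a₅ : ℤ) : ℂ) ∧ reg11 L f = ((N11 a₁ a₂ a₃ a₄ a₅ : ℤ) : ℂ)

/-- The result in case B. -/
def OutB (L : Type u) [Group L] [Fintype L] (f : L → ℂ) (c : ℤ) (t : L) : Prop :=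
  reg11 L f = 11 ∧ ((f 1 = ((66 * c : ℤ) : ℂ) ∧ f t = ((6 * c : ℤ) : ℂ)) ∨
    (f 1 = ((-99 * c : ℤ) : ℂ) ∧ f t = ((c : ℤ) : ℂ)) ∨ (f 1 = ((176 * c : ℤ) : ℂ) ∧ f t = ((-4 * c : ℤ) : ℂ)))

/-- **The `M₁₂` side** (to be proved: helper656). -/
def MTwelveSide : Prop :=
  ∀ (L : Type u) [Group L] [Fintype L], Spor.IsoM12 L → ∀ (f : L → ℂ) (c : ℤ) (y t : L), ElevenBase L f c y t →
    (SecA L f → OutA L f c t) ∧ (SecB L f → OutB L f c t)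

end Cfsg.Agent.H436.M23
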