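import Cfsg.Agent.H436.M23.Ar
import Cfsg.Agent.H436.M23.Ct
import Cfsg.Agent.H436.M23.Iface
import Cfsg.Agent.Characters.Counting

/-!
# The part of the character table of `M₁₂` which is needed for `Sec11` (helper436)
-/

set_option autoImplicit false
set_option linter.unusedSectionVars false

open scoped ComplexConjugate
open Cfsg

namespace Cfsg.Agent.H436.M23.Tab

open Subgroup
open Cfsg.Agent.Characters
open Cfsg.Agent.MTwelve
open Cfsg.Agent.MTwelve.BlockData
open Cfsg.Agent.MTwelve.FiveBlock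
open Cfsg.Agent.MTwelve.DegreeEleven

universe u

variable {G : Type u} [Group G]

/-- `∑ χ(t)³ / χ(1)` is nonnegative (the class constant `a(t, t, t)`) -/
theorem sum_cube_nonneg [Fintype G] [Fintype (IrrCharacter G)] {t : G} {s : IrrCharacter G → ℤ}
    (hs : ∀ ψ : IrrCharacter G, (ψ : G → ℂ) t = s ψ) :
    0 ≤ ∑ ψ : IrrCharacter G, s ψ ^ 3 * ((Nat.card G / deg ψ : ℕ) : ℤ) := by
  classical
  have hG : (Nat.card G : ℂ) ≠ 0 := Core.card_ne_zero_complex
  have key : ∀ ψ : IrrCharacter G, (ψ : G → ℂ) 1 * ∑ b : G, ∑ a : G, (ψ : G → ℂ) (a * t * a⁻¹ * (b * t * b⁻¹ * t)) =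
      (Nat.card G : ℂ) * ((s ψ ^ 3 * ((Nat.card G / deg ψ : ℕ) : ℤ) : ℤ) : ℂ) := by
    intro ψ
    have h1 : ∀ b : G, ∑ a : G, (ψ : G → ℂ) (a * t * a⁻¹ * (b * t * b⁻¹ * t)) =
        (Nat.card G : ℂ) * s ψ / (ψ : G → ℂ) 1 * (ψ : G → ℂ) (b * t * b⁻¹ * t) := by
      intro b
      rw [Central.sum_char_conj_mul ψ.2, hs]
      ring
    rw [Finset.sum_congr rfl fun b _ => h1 b, ← Finset.mul_sum, Central.sum_char_conj_mul ψ.2, hs, apply_one]
    have hd : (deg ψ : ℂ) ≠ 0 := by exact_mod_cast (deg_pos ψ).ne'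
    have h2 : (((Nat.card G / deg ψ : ℕ) : ℤ) : ℂ) = (Nat.card G : ℂ) / deg ψ := by
      rw [Int.cast_natCast, Nat.cast_div (deg_dvd ψ) hd]
    rw [Int.cast_mul, Int.cast_pow, h2]
    field_simp
  have h3 : ∑ ψ : IrrCharacter G, (ψ : G → ℂ) 1 * ∑ b : G, ∑ a : G, (ψ : G → ℂ) (a * t * a⁻¹ * (b * t * b⁻¹ * t)) =
      (Nat.card G : ℂ) * ((∑ b : G, ∑ a : G, if a * t * a⁻¹ * (b * t * b⁻¹ * t) = 1 then 1 else 0 : ℕ) : ℂ) := by
    simp only [Finset.mul_sum]
    rw [Finset.sum_comm]
    push_cast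
    rw [Finset.mul_sum]
    refine Finset.sum_congr rfl fun b _ => ?_
    rw [Finset.sum_comm, Finset.mul_sum]
    refine Finset.sum_congr rfl fun a _ => ?_
    rw [Counting.sum_irr_one_mul]
    split_ifs <;> simp
  rw [Finset.sum_congr rfl fun ψ _ => key ψ, ← Finset.mul_sum] at h3
  have h4 := mul_left_cancel₀ hG h3
  have h5 : (∑ ψ : IrrCharacter G, s ψ ^ 3 * ((Nat.card G / deg ψ : ℕ) : ℤ) : ℤ) =
      ((∑ b : G, ∑ a : G, if a * t * a⁻¹ * (b * t * b⁻¹ * t) = 1 then 1 else 0 : ℕ) : ℤ) := by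
    exact_mod_cast h4
  rw [h5]
  exact Int.natCast_nonneg _

/-- the degrees of the five rational characters of the principal `11`-block -/
def D : Fin 5 → ℤ := ![1, 45, 54, 120, 144]
/-- their values at `y` -/
def V : Fin 5 → ℤ := ![1, 0, -1, 0, -1]
/-- their values at `t y` -/
def W : Fin 5 → ℤ := ![1, 0, 1, 0, -1]
/-- their values at `t` -/
def S : Fin 5 → ℤ := ![1, 5, 6, 0, 4]
/-- their values at the elements of order 11 -/
def E : Fin 5 → ℤ := ![1, 1, -1, -1, 1]
/-- the degrees of the three characters of `11`-defect zero in the principal `5`-block -/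
def KD : Fin 3 → ℤ := ![66, 99, 176]
/-- their values at `y` and `t y` -/
def KV : Fin 3 → ℤ := ![1, -1, 1]
/-- their values at `t` -/
def KS : Fin 3 → ℤ := ![6, -1, -4]

/-- the part of the character table -/
structure MTab {L : Type u} [Group L] (y t : L) (χ : Fin 5 → IrrCharacter L) (th th' : IrrCharacter L)
    (k : Fin 3 → IrrCharacter L) : Prop where
  th_ne : th ≠ th'
  one : ∀ i, (χ i : L → ℂ) 1 = D i
  vy : ∀ i, (χ i : L → ℂ) y = V i
  vty : ∀ i, (χ i : L → ℂ) (t * y) = W i
  vt : ∀ i, (χ i : L → ℂ) t = S i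
  th_one : (th : L → ℂ) 1 = 16
  th_one' : (th' : L → ℂ) 1 = 16
  rest : ∀ ψ : IrrCharacter L, (∃ i, ψ = χ i) ∨ ψ = th ∨ ψ = th' ∨ 11 ∣ charDegree (ψ : L → ℂ)
  rel : ∀ g : L, ¬ 11 ∣ orderOf g → (th : L → ℂ) g = ∑ i, (E i : ℂ) * (χ i : L → ℂ) g
  rel' : ∀ g : L, ¬ 11 ∣ orderOf g → (th' : L → ℂ) g = ∑ i, (E i : ℂ) * (χ i : L → ℂ) g
  sing : ∀ g : L, 11 ∣ orderOf g → ∀ i, (χ i : L → ℂ) g = E i
  singX : ∀ g : L, 11 ∣ orderOf g → (th : L → ℂ) g + (th' : L → ℂ) g = -1
  kd : ∀ j, (k j : L → ℂ) 1 = KD j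
  ky : ∀ j, (k j : L → ℂ) y = KV j
  kty : ∀ j, (k j : L → ℂ) (t * y) = KV j
  kt : ∀ j, (k j : L → ℂ) t = KS j
  kin : ∀ ψ : IrrCharacter L, (ψ : L → ℂ) y + (ψ : L → ℂ) (t * y) ≠ 0 → (∃ i, ψ = χ i) ∨ ∃ j, ψ = k j
  cy : ∀ z : L, orderOf z = 5 → IsConj y z
  c10 : Nat.card (centralizer ({y} : Set L)) = 10

/-- the elements of order divisible by 11 -/
theorem exists_conj_mem [Finite G] [IsSimpleGroup G] (hc : Nat.card G = 95040) (R : Sylow 11 G) {g : G} (hg : 11 ∣ orderOf g) :
    ∃ a : G, a * g * a⁻¹ ∈ R ∧ a * g * a⁻¹ ≠ 1 := by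
  have h11 : Fact (Nat.Prime 11) := ⟨by norm_num⟩
  obtain ⟨m, hm⟩ := hg
  have hm0 : m ≠ 0 := by
    rintro rfl
    exact (orderOf_pos g).ne' hm
  have hx : orderOf (g ^ m) = 11 := by
    rw [orderOf_pow_of_dvd hm0 ⟨11, by rw [hm, mul_comm]⟩, hm, Nat.mul_div_cancel _ (Nat.pos_of_ne_zero hm0)]
  have hpg : IsPGroup 11 (zpowers (g ^ m)) := IsPGroup.of_card (n := 1) (by rw [Nat.card_zpowers, hx, pow_one])
  obtain ⟨P, hP⟩ := hpg.exists_le_sylow
  have hPc : Nat.card (P : Subgroup G) = 11 := Cfsg.Agent.MTwelve.Assembly5.card_eleven hc P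
  have hPz : (P : Subgroup G) = zpowers (g ^ m) := by
    symm
    apply eq_of_le_of_card_ge hP
    rw [Nat.card_zpowers, hx, hPc]
  have hgP : g ∈ (P : Subgroup G) := by
    have e : (P : Set G) = (zpowers (g ^ m) : Set G) := congrArg (fun K : Subgroup G => (K : Set G)) hPz
    rw [← Cfsg.Agent.MTwelve.SylowEleven.centralizer_sylow11 hc P, e, mem_centralizer_iff]
    rintro _ ⟨i, rfl⟩
    exact (((Commute.refl g).pow_left m).zpow_left i).eq
  obtain ⟨a, ha⟩ := MulAction.exists_smul_eq G P R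
  refine ⟨a, ?_, ?_⟩
  · rw [← ha]
    have h1 : a * g * a⁻¹ ∈ ((a • P : Sylow 11 G) : Subgroup G) := by
      rw [Sylow.coe_subgroup_smul]
      exact Subgroup.smul_mem_pointwise_smul _ _ _ hgP
    exact h1
  · intro h
    rw [conj_eq_one_iff] at h
    rw [h, orderOf_one] at hm
    omega

theorem exists_tab {L : Type u} [Group L] [Fintype L] [IsSimpleGroup L] (hc : Nat.card L = 95040) {y t : L}
    (hy : orderOf y = 5) (ht : orderOf t = 2) (hyt : Commute t y) :
    ∃ χ th th' k, MTab y t χ th th' k := by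
  classical
  have := Core.finite_irr (G := L)
  have := Fintype.ofFinite (IrrCharacter L)
  obtain ⟨C, R, B, hcy, hc10, hdeg, ho, hv, hw, hs, hNE, hX, e120, e54, e45, e144, hd⟩ :=
    Ct.exists_data hc (fun P => Cfsg.Agent.MTwelve.SylowEleven.centralizer_sylow11 hc P)
      (fun P => Cfsg.Agent.MTwelve.SylowEleven.card_normalizer_sylow11 hc P) hy ht hyt
  have hdvd : ∀ ψ, C.deg ψ ∣ 95040 := fun ψ => by
    rw [hdeg, ← hc]
    exact deg_dvd ψ
  have hone : ∀ ψ : IrrCharacter L, (ψ : L → ℂ) 1 = ((C.deg ψ : ℤ) : ℂ) := fun ψ => by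
    rw [hdeg, apply_one]; norm_cast
  have hsd : ∑ ψ, C.s ψ * C.deg ψ = 0 := by
    refine sum_mul_of_not_isConj hs hone ?_
    rw [isConj_one_left]
    rintro rfl
    rw [orderOf_one] at ht
    norm_num at ht
  have hpos : 0 ≤ ∑ ψ, Ar.T C ψ := by
    have h1 := sum_cube_nonneg hs
    rw [hc, ← hdeg] at h1
    exact h1
  obtain ⟨⟨d0, d1, d3⟩, hc2, s0, s1, s144, s3, sth, sth', h45, h54, h120, hth, hth'⟩ := Ar.final C hdvd hsd hpos
  have hcd : ∀ ψ : IrrCharacter L, charDegree (ψ : L → ℂ) = C.deg ψ := fun ψ => by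
    rw [hdeg]
    exact Cfsg.Agent.MTwelve.ElevenMain.charDegree_eq_deg ψ
  have v144 : C.v C.c144 = -1 := by
    rw [← hc2, C.c_v, hc2, C.d144]
    decide
  have w144 : C.w C.c144 = -1 := by
    rw [← hc2, C.c_w, hc2, C.d144]
    decide
  have w45 : C.w C.c45 = 0 := by rw [C.w_eq C.c45_notMem, C.v45]; norm_num
  have w54 : C.w C.c54 = 1 := by rw [C.w_eq C.c54_notMem, C.v54]; norm_num
  have w120 : C.w C.c120 = 0 := by rw [C.w_eq C.c120_notMem, C.v120]; norm_num
  have eo : B.ε C.o = 1 := by rw [ho]; exact B.ε_triv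
  set χ : Fin 5 → IrrCharacter L := ![C.o, C.c45, C.c54, C.c120, C.c144] with hχ
  have hinj : Function.Injective χ := by
    intro i j hij
    have h1 : C.deg (χ i) = C.deg (χ j) := by rw [hij]
    have key : ∀ i, C.deg (χ i) = ![1, 45, 54, 120, 144] i := by
      intro i
      fin_cases i
      · exact C.deg_o
      · exact C.d45
      · exact C.d54
      · exact C.d120
      · exact C.d144
    rw [key, key] at h1
    clear hij key
    revert i j
    decide
  have hNEi : B.NE = Finset.univ.image χ := by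
    ext ψ
    rw [hNE, Finset.mem_image]
    constructor
    · rintro (h | h | h | h | h)
      · exact ⟨0, Finset.mem_univ _, h.symm⟩
      · exact ⟨3, Finset.mem_univ _, h.symm⟩
      · exact ⟨2, Finset.mem_univ _, h.symm⟩
      · exact ⟨1, Finset.mem_univ _, h.symm⟩
      · exact ⟨4, Finset.mem_univ _, h.symm⟩
    · rintro ⟨i, -, rfl⟩
      fin_cases i
      · exact Or.inl rfl
      · exact Or.inr (Or.inr (Or.inr (Or.inl rfl)))
      · exact Or.inr (Or.inr (Or.inl rfl))
      · exact Or.inr (Or.inl rfl)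
      · exact Or.inr (Or.inr (Or.inr (Or.inr rfl)))
  have hε : ∀ i, B.ε (χ i) = E i := by
    intro i
    fin_cases i
    · exact eo
    · exact e45
    · exact e54
    · exact e120
    · exact e144
  have hrel : ∀ Θ ∈ B.X, ∀ g : L, ¬ 11 ∣ orderOf g → (Θ : L → ℂ) g = ∑ i, (E i : ℂ) * (χ i : L → ℂ) g := by
    intro Θ hΘ g hg
    have h1 := B.rel Θ hΘ g hg
    rw [hNEi, Finset.sum_image (fun i _ j _ h => hinj h), hd, Int.cast_one, one_mul] at h1
    rw [← h1]
    exact Finset.sum_congr rfl fun i _ => by rw [hε]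
  have hmemNE : ∀ i, χ i ∈ B.NE := fun i => by rw [hNEi]; exact Finset.mem_image_of_mem _ (Finset.mem_univ i)
  refine ⟨χ, C.th, C.th', ![C.c 0, C.c 1, C.c 3], ?_⟩
  exact
    { th_ne := C.th_ne
      one := by
        intro i
        rw [hone]
        fin_cases i
        · exact congrArg _ (by change (C.deg C.o : ℤ) = 1; rw [C.deg_o]; rfl)
        · exact congrArg _ (by change (C.deg C.c45 : ℤ) = 45; rw [C.d45]; rfl)
        · exact congrArg _ (by change (C.deg C.c54 : ℤ) = 54; rw [C.d54]; rfl)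
        · exact congrArg _ (by change (C.deg C.c120 : ℤ) = 120; rw [C.d120]; rfl)
        · exact congrArg _ (by change (C.deg C.c144 : ℤ) = 144; rw [C.d144]; rfl)
      vy := by
        intro i
        rw [hv]
        fin_cases i
        · exact congrArg _ C.v_o
        · exact congrArg _ C.v45
        · exact congrArg _ C.v54
        · exact congrArg _ C.v120
        · exact congrArg _ v144
      vty := by
        intro i
        rw [hw]
        fin_cases i
        · exact congrArg _ C.w_o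
        · exact congrArg _ w45
        · exact congrArg _ w54
        · exact congrArg _ w120
        · exact congrArg _ w144
      vt := by
        intro i
        rw [hs]
        fin_cases i
        · exact congrArg _ C.s_o
        · exact congrArg _ h45
        · exact congrArg _ h54
        · exact congrArg _ h120
        · exact congrArg _ s144
      th_one := by rw [hone, C.dth]; norm_num
      th_one' := by rw [hone, C.dth']; norm_num
      rest := by
        intro ψ
        rw [hcd]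
        rcases C.rest ψ with h | h | h | h | h | h | h | h
        · exact Or.inl ⟨0, h⟩
        · exact Or.inl ⟨1, h⟩
        · exact Or.inl ⟨2, h⟩
        · exact Or.inl ⟨3, h⟩
        · exact Or.inl ⟨4, h⟩
        · exact Or.inr (Or.inl h)
        · exact Or.inr (Or.inr (Or.inl h))
        · exact Or.inr (Or.inr (Or.inr h))
      rel := hrel _ ((hX _).2 (Or.inl rfl))
      rel' := hrel _ ((hX _).2 (Or.inr rfl))
      sing := by
        intro g hg i
        obtain ⟨a, ha, ha1⟩ := exists_conj_mem hc R hg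
        have h1 := B.apply_NE (χ i) (hmemNE i) _ ha ha1 1 (one_mem _) (by rw [orderOf_one]; norm_num)
        rw [mul_one, Core.isIrr_isClassFunction (χ i).2, hε] at h1
        exact h1
      singX := by
        intro g hg
        obtain ⟨a, ha, ha1⟩ := exists_conj_mem hc R hg
        have h1 := B.sum_X _ ha ha1 1 (one_mem _) (by rw [orderOf_one]; norm_num)
        have h2 : B.X = {C.th, C.th'} := by
          ext ψ
          rw [hX, Finset.mem_insert, Finset.mem_singleton]
        rw [h2, Finset.sum_pair C.th_ne, mul_one, Core.isIrr_isClassFunction C.th.2,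
          Core.isIrr_isClassFunction C.th'.2, hd, Int.cast_one] at h1
        exact h1
      kd := by
        intro j
        rw [hone]
        fin_cases j
        · exact congrArg _ (by change (C.deg (C.c 0) : ℤ) = _; rw [d0]; rfl)
        · exact congrArg _ (by change (C.deg (C.c 1) : ℤ) = _; rw [d1]; rfl)
        · exact congrArg _ (by change (C.deg (C.c 3) : ℤ) = _; rw [d3]; rfl)
      ky := by
        intro j
        rw [hv]
        fin_cases j
        · exact congrArg _ (by change C.v (C.c 0) = _; rw [C.c_v, d0]; decide)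
        · exact congrArg _ (by change C.v (C.c 1) = _; rw [C.c_v, d1]; decide)
        · exact congrArg _ (by change C.v (C.c 3) = _; rw [C.c_v, d3]; decide)
      kty := by
        intro j
        rw [hw]
        fin_cases j
        · exact congrArg _ (by change C.w (C.c 0) = _; rw [C.c_w, d0]; decide)
        · exact congrArg _ (by change C.w (C.c 1) = _; rw [C.c_w, d1]; decide)
        · exact congrArg _ (by change C.w (C.c 3) = _; rw [C.c_w, d3]; decide)
      kt := by
        intro j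
        rw [hs]
        fin_cases j
        · exact congrArg _ s0
        · exact congrArg _ s1
        · exact congrArg _ s3
      kin := by
        intro ψ hψ
        rw [hv, hw] at hψ
        have h1 : ψ ∈ C.S := by
          by_contra h1
          apply hψ
          rw [C.w_eq h1]
          push_cast
          ring
        rcases C.mem_S.1 h1 with h | ⟨j, h⟩
        · exact Or.inl ⟨0, h⟩
        · fin_cases j
          · exact Or.inr ⟨0, h.symm⟩
          · exact Or.inr ⟨1, h.symm⟩
          · exact Or.inl ⟨4, h.symm.trans hc2⟩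
          · exact Or.inr ⟨2, h.symm⟩
      cy := hcy
      c10 := hc10 }

end Cfsg.Agent.H436.M23.Tab
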