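import Cfsg.Agent.H436.M23.Sec
import Cfsg.Agent.H994.M23.Norm
import Cfsg.Agent.H924.M23.Facts
import Cfsg.Agent.H715.Fpr.MathData
import Cfsg.Agent.CharactersDeep.ModCongr
import Cfsg.Agent.Blocks.ExistsModular

/-!
# The field `Sec11` in a group with `C(x) = ⟨x⟩ × M₁₂`, `x` of order 11 (helper436)
-/

set_option autoImplicit false
set_option linter.unusedSectionVars false

namespace Cfsg.Agent.H436.M23.Abs

open Cfsg Subgroup
open Cfsg.Agent.Blocks.Basic Cfsg.Agent.Blocks.Local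
open Cfsg.Agent.Characters.Core
open Cfsg.Agent.H994.M23.Norm (Sp Sc sm sm_eq sm_congr section_sum conj_sq)
open scoped ComplexConjugate

universe v

variable {G : Type v} [Group G]

/-- `x` of order 11, all elements of order 11 are conjugate, `C(x) = ⟨x⟩ × L`, `L ≅ M₁₂`, `121` the order of a Sylow subgroup -/
structure El (x : G) (L : Subgroup G) : Prop where
  sp : Sp 11 x L
  pows : ∀ k : ℕ, ¬ 11 ∣ k → ∃ n : G, n * x * n⁻¹ = x ^ k
  norm : ∀ g ∈ normalizer ((zpowers x : Subgroup G) : Set G), ∀ t ∈ L, g * t * g⁻¹ ∈ L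
  iso : Spor.IsoM12 L
  cj : ∀ g : G, orderOf g = 11 → IsConj x g
  fac : (Nat.card G).factorization 11 = 2

instance p11 : Fact (Nat.Prime 11) := ⟨by norm_num⟩

section

variable [Finite G] {x : G} {L : Subgroup G}

theorem El.notMem (h : El x L) : x ∉ L := by
  intro h1
  have h2 : x ∈ zpowers x ⊓ L := ⟨mem_zpowers x, h1⟩
  rw [disjoint_iff.1 h.sp.disj, mem_bot] at h2
  have h3 := h.sp.ord
  rw [h2, orderOf_one] at h3
  norm_num at h3

theorem El.rat (h : El x L) : Sec.Rat 11 x (centralizer ({x} : Set G)) L where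
  ord := h.sp.ord
  cent := rfl
  le := h.sp.le
  card := h.sp.card
  notMem := h.notMem
  pows := h.pows
  norm := h.norm

theorem card_m12 {L : Type*} [Group L] (h : Spor.IsoM12 L) : Nat.card L = 95040 := by
  rw [Nat.card_congr h.some.toEquiv, Cfsg.Agent.MTwelveType.SylowModel.card_M12]

theorem fac_m12 {L : Type*} [Group L] (h : Spor.IsoM12 L) : (Nat.card L).factorization 11 = 1 := by
  rw [card_m12 h]
  decide +kernel

/-- the centralizer of a Sylow `11`-subgroup of `M₁₂` -/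
theorem pgroup_cent {L : Type*} [Group L] [Finite L] (h : Spor.IsoM12 L) (Q : Sylow 11 L) :
    IsPGroup 11 (centralizer ((Q : Subgroup L) : Set L)) := by
  obtain ⟨e⟩ := h
  have hQ : Nat.card (Q : Subgroup L) = 11 := by
    rw [Q.card_eq_multiplicity, fac_m12 ⟨e⟩, pow_one]
  have hR : Nat.card ((Q : Subgroup L).map e.toMonoidHom) = 11 :=
    (Nat.card_congr ((Q : Subgroup L).equivMapOfInjective e.toMonoidHom e.injective).toEquiv).symm.trans hQ
  have h1 := (Cfsg.Agent.H715.Fpr.MathData.cn12_11 hR).1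
  refine IsPGroup.of_card (n := 1) ?_
  rw [pow_one]
  refine Eq.trans (Nat.card_congr (e.toEquiv.subtypeEquiv fun g => ?_)) h1
  rw [mem_centralizer_iff, mem_centralizer_iff]
  constructor
  · rintro h2 _ ⟨q, hq, rfl⟩
    change e q * e g = e g * e q
    rw [← map_mul, ← map_mul, h2 q hq]
  · intro h2 q hq
    have h3 : e q * e g = e g * e q := h2 (e q) ⟨q, hq, rfl⟩
    rw [← map_mul, ← map_mul] at h3
    exact e.injective h3

/-- no element of order 121 -/
theorem El.no (h : El x L) (g : G) : orderOf g ≠ 121 := by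
  intro hg
  have h1 : orderOf (g ^ 11) = 11 := by
    rw [orderOf_pow, hg]
    norm_num
  obtain ⟨a, ha⟩ := isConj_iff.1 (h.cj _ h1)
  obtain ⟨k, hk⟩ : ∃ k, k = a⁻¹ * g * a := ⟨_, rfl⟩
  have h2 : k ^ 11 = x := by
    rw [hk]
    have h3 : (a⁻¹ * g * a) ^ 11 = a⁻¹ * g ^ 11 * a := by
      have := conj_pow (i := 11) (a := a⁻¹) (b := g)
      rw [inv_inv] at this
      exact this
    rw [h3, ← ha]
    group
  have h3 : k ∈ centralizer ({x} : Set G) := by
    rw [mem_centralizer_singleton_iff, ← h2]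
    exact (Commute.refl k).pow_right 11
  obtain ⟨i, t, ht, hkt⟩ := h.sp.split k h3
  have h4 : Commute (x ^ i) t := (h.sp.comm ht).pow_left i
  have h5 : x = t ^ 11 := by
    rw [← h2, hkt, h4.mul_pow, ← pow_mul, mul_comm i, pow_mul]
    have h6 : x ^ 11 = 1 := by rw [← h.sp.ord, pow_orderOf_eq_one]
    rw [h6, one_pow, one_mul]
  exact h.notMem (h5 ▸ pow_mem ht 11)

/-- the section of `x` -/
theorem El.sc_iff (h : El x L) (g : G) : Sc 11 x g ↔ 11 ∣ orderOf g := by
  constructor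
  · rintro ⟨y, ⟨z, rfl, hc, -, hz⟩, hy⟩
    have h1 : orderOf y = 11 := by
      obtain ⟨a, rfl⟩ := isConj_iff.1 hy
      rw [← h.sp.ord]
      exact MulEquiv.orderOf_eq (MulAut.conj a) x
    have h2 : Nat.Coprime (orderOf y) (orderOf z) := by
      rw [h1]
      exact (Nat.Prime.coprime_iff_not_dvd (by norm_num)).2 hz
    rw [hc.orderOf_mul_eq_mul_orderOf_of_coprime h2, h1]
    exact dvd_mul_right _ _
  · intro hg
    obtain ⟨y, hy⟩ := Cfsg.Agent.Blocks.PPart.exists_isPPart 11 g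
    refine ⟨y, hy, ?_⟩
    obtain ⟨z, rfl, hc, ⟨k, hk⟩, hz⟩ := hy
    have h2 : Nat.Coprime (orderOf y) (orderOf z) := by
      rw [hk]
      exact Nat.Coprime.pow_left k ((Nat.Prime.coprime_iff_not_dvd (by norm_num)).2 hz)
    rw [hc.orderOf_mul_eq_mul_orderOf_of_coprime h2] at hg
    have hk0 : k ≠ 0 := by
      rintro rfl
      rw [hk, pow_zero, one_mul] at hg
      exact hz hg
    have hk1 : k = 1 := by
      by_contra hk1
      obtain ⟨m, rfl⟩ : ∃ m, k = m + 2 := ⟨k - 2, by omega⟩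
      apply h.no (y ^ 11 ^ m)
      rw [orderOf_pow, hk, Nat.gcd_eq_right (pow_dvd_pow 11 (by omega)), Nat.pow_div (by omega) (by norm_num),
        Nat.add_sub_cancel_left]
    apply h.cj
    rw [hk, hk1, pow_one]

/-- the congruence modulo `121` -/
theorem El.dvd_deg (h : El x L) (X : IrrCharacter G) {d m : ℤ} (hd : (X : G → ℂ) 1 = d) (hm : (X : G → ℂ) x = m) :
    (121 : ℤ) ∣ d - m := by
  classical
  obtain ⟨P⟩ : Nonempty (Sylow 11 G) := inferInstance
  have : Fintype (P : Subgroup G) := Fintype.ofFinite _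
  have hP : Nat.card (P : Subgroup G) = 121 := by
    rw [P.card_eq_multiplicity, h.fac]
    norm_num
  have h1 : ∀ e : (P : Subgroup G), e ≠ 1 → (X : G → ℂ) (e : G) = m := by
    intro e he
    have h2 : orderOf (e : G) ∣ 11 ^ 2 := by
      rw [Subgroup.orderOf_coe]
      have := orderOf_dvd_natCard e
      rwa [hP] at this
    obtain ⟨k, hk, hk'⟩ := (Nat.dvd_prime_pow (by norm_num)).1 h2
    have h3 : orderOf (e : G) = 11 := by
      interval_cases k
      · exfalso
        apply he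
        rw [pow_zero, orderOf_eq_one_iff] at hk'
        exact Subtype.ext hk'
      · rw [hk', pow_one]
      · exfalso
        exact h.no e (by rw [hk']; norm_num)
    obtain ⟨a, ha⟩ := isConj_iff.1 (h.cj e h3)
    rw [← ha, isIrr_isClassFunction X.2, hm]
  obtain ⟨n, hn⟩ := classInner_isNat (isCharacter_comp (P : Subgroup G).subtype (isIrr_isCharacter X.2))
    (isCharacter_one (G := (P : Subgroup G)))
  rw [Characters.Core.classInner_def, hP] at hn
  have h2 : ∑ e : (P : Subgroup G), ((X : G → ℂ) ∘ (P : Subgroup G).subtype) e * conj ((1 : ↥(P : Subgroup G) → ℂ) e) =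
      d + 120 * m := by
    rw [← Finset.add_sum_erase Finset.univ _ (Finset.mem_univ (1 : (P : Subgroup G)))]
    have h3 : ∀ e ∈ Finset.univ.erase (1 : (P : Subgroup G)),
        ((X : G → ℂ) ∘ (P : Subgroup G).subtype) e * conj ((1 : ↥(P : Subgroup G) → ℂ) e) = m := by
      intro e he
      rw [Pi.one_apply, map_one, mul_one]
      exact h1 e (Finset.ne_of_mem_erase he)
    rw [Finset.sum_congr rfl h3, Finset.sum_const, Finset.card_erase_of_mem (Finset.mem_univ _), Finset.card_univ,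
      ← Nat.card_eq_fintype_card, hP, Pi.one_apply, map_one, mul_one, nsmul_eq_mul]
    have h4 : ((X : G → ℂ) ∘ (P : Subgroup G).subtype) 1 = d := hd
    rw [h4]
    norm_num
  rw [h2] at hn
  have h3 : ((d + 120 * m : ℤ) : ℂ) = ((121 * n : ℤ) : ℂ) := by
    push_cast
    rw [← hn]
    push_cast
    ring
  have h4 : d + 120 * m = 121 * n := by exact_mod_cast h3
  exact ⟨n - m, by linarith⟩

/-- the congruence modulo `11` -/
theorem El.dvd_inv (h : El x L) (X : IrrCharacter G) {t : G} (ht : ¬ 11 ∣ orderOf t) (htx : Commute x t) {b k : ℤ}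
    (hb : (X : G → ℂ) t = b) (hk : (X : G → ℂ) (x * t) = k) : (11 : ℤ) ∣ b - k := by
  obtain ⟨M, hM⟩ := Cfsg.Agent.Blocks.ExistsModular.exists_isPModular (show Nat.Prime 11 by norm_num)
  have := isPrime_of_isPModular hM
  have h1 : IsPPart 11 (x * t) x := Cfsg.Agent.Blocks.PPart.isPPart_mul htx ⟨1, by rw [h.sp.ord, pow_one]⟩ ht
  have h2 := Cfsg.Agent.CharactersDeep.ModCongr.memLocalIdeal_character_sub hM X.2 _ _ h1
  rw [inv_mul_cancel_left, hk, hb] at h2
  have h3 : (k : ℂ) - b = ((k - b : ℤ) : ℂ) := by push_cast; ring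
  rw [h3, memLocalIdeal_intCast_iff hM] at h2
  have h4 : (11 : ℤ) ∣ k - b := h2
  rw [← dvd_neg, neg_sub] at h4
  exact h4

/-- the norm -/
theorem El.norm_eq [Fintype G] [Fintype L] (h : El x L) (X : IrrCharacter G) {n : ℤ}
    (hn : reg11 L (fun l : L => (X : G → ℂ) (x * (l : G))) = n) :
    121 * sm (fun g => ‖(X : G → ℂ) g‖ ^ 2) (fun g => 11 ∣ orderOf g) = n * (Nat.card G : ℝ) := by
  classical
  have h1 := section_sum h.sp (w := fun g => ‖(X : G → ℂ) g‖ ^ 2) (conj_sq X.2)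
  rw [sm_congr h.sc_iff (fun g _ => rfl)] at h1
  have h2 : (((11 : ℝ) * ((Nat.card L : ℝ)⁻¹ * sm (fun t : L => ‖(X : G → ℂ) (x * t)‖ ^ 2)
      (fun t : L => ¬ 11 ∣ orderOf t)) : ℝ) : ℂ) = ((n : ℝ) : ℂ) := by
    rw [Complex.ofReal_intCast, ← hn, sm_eq]
    unfold reg11
    push_cast
    congr 2
    refine Finset.sum_congr (by congr) fun l _ => ?_
    rw [Complex.mul_conj, Complex.normSq_eq_norm_sq]
    push_cast
    rfl
  have h3 := Complex.ofReal_injective h2
  have h4 : (Nat.card L : ℝ) ≠ 0 := Nat.cast_ne_zero.2 Nat.card_pos.ne'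
  rw [← h3]
  field_simp
  have h5 : ((11 : ℕ) : ℝ) = 11 := by norm_num
  rw [h5] at h1
  linear_combination 11 * h1

/-- **The field `Sec11`.** -/
theorem El.main [Fintype G] (hS : MTwelveSide.{v}) (h : El x L) (X : IrrCharacter G) {u t : G} {d b w c : ℤ}
    (hu : orderOf u = 5) (ht : orderOf t = 2) (hut : Commute t u) (hxu : Commute x u) (hxt : Commute x t)
    (hc : c = 1 ∨ c = -1) (hd : (X : G → ℂ) 1 = d) (hb : (X : G → ℂ) t = b) (hw : centralChar (X : G → ℂ) t = w)
    (hidx : 11 ∣ (centralizer ({t} : Set G)).index) (h1 : (X : G → ℂ) (x * u) = c)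
    (h2 : (X : G → ℂ) (x * (t * u)) = c) :
    ∃ n : ℤ, H924.M23.Sec11 c d b w n ∧
      121 * sm (fun g => ‖(X : G → ℂ) g‖ ^ 2) (fun g => 11 ∣ orderOf g) = n * (Nat.card G : ℝ) := by
  classical
  have : Fintype L := Fintype.ofFinite L
  obtain ⟨M, hM⟩ := Cfsg.Agent.Blocks.ExistsModular.exists_isPModular (show Nat.Prime 11 by norm_num)
  have hMp := isPrime_of_isPModular hM
  have huL : u ∈ L := h.sp.reg_mem (mem_centralizer_singleton_iff.2 hxu.symm.eq) (by rw [hu]; norm_num)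
  have htL : t ∈ L := h.sp.reg_mem (mem_centralizer_singleton_iff.2 hxt.symm.eq) (by rw [ht]; norm_num)
  set f : L → ℂ := fun l : L => (X : G → ℂ) (x * (l : G)) with hf
  have hfac := fac_m12 h.iso
  have hbase : ElevenBase L f c ⟨u, huL⟩ ⟨t, htL⟩ :=
    { cls := by
        intro g k
        change (X : G → ℂ) (x * ((k : G) * g * (k : G)⁻¹)) = (X : G → ℂ) (x * g)
        have h3 : x * ((k : G) * g * (k : G)⁻¹) = (k : G) * (x * g) * (k : G)⁻¹ := by
          have := (h.sp.comm k.2).eq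
          rw [← mul_assoc, ← mul_assoc, this, mul_assoc (k : G) x]
        rw [h3, isIrr_isClassFunction X.2]
      oy := by rw [Subgroup.orderOf_mk, hu]
      ot := by rw [Subgroup.orderOf_mk, ht]
      comm := Subtype.ext hut.eq
      hc := hc
      vy := h1
      vty := h2
      int := fun Φ hΦ hinv => Sec.exists_int h.rat hΦ hinv (isIrr_isCharacter X.2) }
  obtain ⟨hA, hB⟩ := hS L h.iso f c ⟨u, huL⟩ ⟨t, htL⟩ hbase
  have hf1 : f 1 = (X : G → ℂ) x := by
    rw [hf]
    change (X : G → ℂ) (x * ((1 : L) : G)) = _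
    rw [Subgroup.coe_one, mul_one]
  have ht11 : ¬ 11 ∣ orderOf t := by rw [ht]; norm_num
  by_cases hX : X ∈ principalBlock M G
  · have hSA : SecA L f := fun lam hlam => Sec.caseA hM h.rat.toDat hfac X hX lam hlam
    obtain ⟨a₁, a₂, a₃, a₄, a₅, e1, e2, e3, e4, e5⟩ := hA hSA
    refine ⟨N11 a₁ a₂ a₃ a₄ a₅, Or.inl ⟨a₁, a₂, a₃, a₄, a₅, e1, e2, ?_, ?_, ?_, rfl⟩, h.norm_eq X e5⟩
    · exact h.dvd_deg X hd (hf1.symm.trans e3)
    · exact h.dvd_inv X ht11 hxt hb e4
    · have h3 : MemLocalIdeal M (centralChar (fun _ : G => (1 : ℂ)) t - centralChar (X : G → ℂ) t) := hX t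
      have h4 : centralChar (fun _ : G => (1 : ℂ)) t = (((centralizer ({t} : Set G)).index : ℤ) : ℂ) := by
        unfold centralChar
        simp
      rw [h4, hw, ← Int.cast_sub, memLocalIdeal_intCast_iff hM] at h3
      have h5 : (11 : ℤ) ∣ ((centralizer ({t} : Set G)).index : ℤ) - w := h3
      have h6 : (11 : ℤ) ∣ ((centralizer ({t} : Set G)).index : ℤ) := by exact_mod_cast hidx
      exact (dvd_sub_right h6).1 h5
  · have hSB : SecB L f :=
      { reg := fun l hl => Sec.caseB hM h.rat.toDat hfac (fun lam hlam => by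
          obtain ⟨Q⟩ : Nonempty (Sylow 11 L) := inferInstance
          exact Cfsg.Agent.H633.Unique.mem_of_centralizer hM Q (pgroup_cent h.iso Q) lam hlam) X hX l hl
        one := fun lam hlam hinv hne => Sec.one_of_ne hM h.rat hinv hfac hlam X hne }
    obtain ⟨e5, e⟩ := hB hSB
    refine ⟨11, Or.inr ⟨rfl, ?_⟩, h.norm_eq X (by rw [e5]; norm_num)⟩
    rcases e with ⟨e3, e4⟩ | ⟨e3, e4⟩ | ⟨e3, e4⟩
    · exact Or.inl ⟨h.dvd_deg X hd (hf1.symm.trans e3), h.dvd_inv X ht11 hxt hb e4⟩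
    · refine Or.inr (Or.inl ⟨?_, h.dvd_inv X ht11 hxt hb e4⟩)
      have := h.dvd_deg X hd (hf1.symm.trans e3)
      rwa [show d - -99 * c = d + 99 * c by ring] at this
    · refine Or.inr (Or.inr ⟨h.dvd_deg X hd (hf1.symm.trans e3), ?_⟩)
      have := h.dvd_inv X ht11 hxt hb e4
      rwa [show b - -4 * c = b + 4 * c by ring] at this

end

end Cfsg.Agent.H436.M23.Abs
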