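import Cfsg.Agent.MTwelve.DegreeElevenMain

/-!
# The arithmetic of the numerical data of `M₁₂` (helper436)

`final` : if the class constant `a(t, t, t)` is nonnegative then the principal `5`-block has the degrees
1, 66, 99, 144, 176, and the values at `t` are known.
-/

set_option autoImplicit false
set_option linter.unusedSectionVars false

namespace Cfsg.Agent.H436.M23.Ar

open Cfsg.Agent.MTwelve.FiveBlock
open Cfsg.Agent.MTwelve.DegreeEleven

universe u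

variable {I : Type u} [Fintype I] [DecidableEq I] (C : Ctx I)

theorem s_le (i : I) : -15 ≤ C.s i ∧ C.s i ≤ 15 := by
  have h1 : C.s i * C.s i ≤ 240 :=
    (Finset.single_le_sum (f := fun i => C.s i * C.s i) (fun j _ => mul_self_nonneg _) (Finset.mem_univ i)).trans
      C.col'.2.2.1
  constructor <;> nlinarith

theorem deg_le (i : I) : (C.deg i : ℤ) * C.deg i ≤ 95040 := by
  rw [← C.sum_dd]
  exact Finset.single_le_sum (f := fun i => (C.deg i : ℤ) * C.deg i) (fun j _ => mul_self_nonneg _)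
    (Finset.mem_univ i)

theorem sS (j : Fin 4) : ∃ w : ℤ, w = sgn (C.deg (C.c j)) ∧ (5 : ℤ) ∣ C.s (C.c j) - w ∧
    (4 : ℤ) ∣ C.deg (C.c j) - C.s (C.c j) ∧ -15 ≤ C.s (C.c j) ∧ C.s (C.c j) ≤ 15 := by
  refine ⟨_, rfl, ?_, C.dvd_s _, s_le C _⟩
  rw [← C.c_w]
  exact C.dvd_w _

theorem s45 : C.s C.c45 = 5 ∨ C.s C.c45 = -15 := by
  have h1 := C.dvd_w C.c45
  rw [C.w_eq C.c45_notMem, C.v45] at h1
  have h2 := C.dvd_s C.c45
  rw [C.d45] at h2
  have h3 := s_le C C.c45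
  push_cast at h2
  omega

theorem s120 : C.s C.c120 = 0 := by
  have h1 := C.dvd_w C.c120
  rw [C.w_eq C.c120_notMem, C.v120] at h1
  have h2 := C.dvd_s C.c120
  rw [C.d120] at h2
  have h3 := s_le C C.c120
  push_cast at h2
  omega

theorem s_of_notMem {i : I} (hi : i ∉ C.S) (hd : C.deg i = 16) : C.s i = 4 := by
  have h0 := C.v_abs_le hi
  have hv := C.dvd_v i
  have h1 := C.dvd_w i
  rw [C.w_eq hi] at h1
  have h2 := C.dvd_s i
  rw [hd] at h2 hv
  have h3 := s_le C i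
  push_cast at h2 hv
  omega

theorem sq_A (h144 : C.c144 ∈ C.S) (h16 : ∀ j, C.deg (C.c j) ≠ 16) :
    1 + (C.s (C.c 0) * C.s (C.c 0) + C.s (C.c 1) * C.s (C.c 1) + C.s (C.c 2) * C.s (C.c 2) +
      C.s (C.c 3) * C.s (C.c 3)) + (C.s C.c45 * C.s C.c45 + 68) ≤ 240 := by
  obtain ⟨a, b, -, -, h⟩ := C.caseA h144 h16
  have h1 := (h (fun i => C.s i * C.s i) fun i _ => mul_self_nonneg _).trans C.col'.2.2.1
  have hth : C.th ∉ C.S := C.notMem_S (by rw [C.dth]; norm_num) fun j => by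
    rw [C.dth]; exact h16 j
  have hth' : C.th' ∉ C.S := C.notMem_S (by rw [C.dth']; norm_num) fun j => by
    rw [C.dth']; exact h16 j
  rw [Fin.sum_univ_four, C.s_o, C.col'.1, s120, s_of_notMem C hth C.dth, s_of_notMem C hth' C.dth'] at h1
  have h2 := mul_self_nonneg (C.s a)
  have h3 := mul_self_nonneg (C.s b)
  linarith

theorem not_case2 (h : C.deg (C.c 0) = 11 ∧ C.deg (C.c 1) = 44 ∧ C.deg (C.c 2) = 144 ∧ C.deg (C.c 3) = 176) :
    False := by
  obtain ⟨h0, h1, h2, h3⟩ := h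
  have h144 : C.c144 ∈ C.S := C.mem_S.2 (Or.inr ⟨2, C.eq_c144 h2⟩)
  have hsq := sq_A C h144 fun j => by fin_cases j <;> simp only [Fin.zero_eta, Fin.mk_one, Fin.reduceFinMk] <;> omega
  obtain ⟨w0, hw0, a0, b0, c0⟩ := sS C 0
  obtain ⟨w1, hw1, a1, b1, c1⟩ := sS C 1
  obtain ⟨w2, hw2, a2, b2, c2⟩ := sS C 2
  obtain ⟨w3, hw3, a3, b3, c3⟩ := sS C 3
  rw [h0] at hw0 b0
  rw [h1] at hw1 b1
  rw [h2] at hw2 b2
  rw [h3] at hw3 b3
  have e0 : w0 = 1 := hw0.trans (by decide)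
  have e1 : w1 = -1 := hw1.trans (by decide)
  have e2 : w2 = -1 := hw2.trans (by decide)
  have e3 : w3 = 1 := hw3.trans (by decide)
  have g1 : C.s (C.c 1) = 4 := by push_cast at b1; omega
  have g2 : C.s (C.c 2) = 4 := by push_cast at b2; omega
  have g3 : C.s (C.c 3) = -4 := by push_cast at b3; omega
  have hr := C.rel_s
  rw [Fin.sum_univ_four, h0, h1, h2, h3, show sgn 11 = 1 by decide, show sgn 44 = -1 by decide,
    show sgn 144 = -1 by decide, show sgn 176 = 1 by decide, g1, g2, g3] at hr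
  have g0 : C.s (C.c 0) = 11 := by linarith
  rw [g0, g1, g2, g3] at hsq
  rcases s45 C with h | h <;> rw [h] at hsq <;> norm_num at hsq

theorem not_case3 (h : C.deg (C.c 0) = 11 ∧ C.deg (C.c 1) = 66 ∧ C.deg (C.c 2) = 66 ∧ C.deg (C.c 3) = 144) :
    False := by
  obtain ⟨h0, h1, h2, h3⟩ := h
  have h144 : C.c144 ∈ C.S := C.mem_S.2 (Or.inr ⟨3, C.eq_c144 h3⟩)
  have hsq := sq_A C h144 fun j => by fin_cases j <;> simp only [Fin.zero_eta, Fin.mk_one, Fin.reduceFinMk] <;> omega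
  obtain ⟨w0, hw0, a0, b0, c0⟩ := sS C 0
  obtain ⟨w1, hw1, a1, b1, c1⟩ := sS C 1
  obtain ⟨w2, hw2, a2, b2, c2⟩ := sS C 2
  obtain ⟨w3, hw3, a3, b3, c3⟩ := sS C 3
  rw [h0] at hw0 b0
  rw [h1] at hw1 b1
  rw [h2] at hw2 b2
  rw [h3] at hw3 b3
  have e0 : w0 = 1 := hw0.trans (by decide)
  have e1 : w1 = 1 := hw1.trans (by decide)
  have e2 : w2 = 1 := hw2.trans (by decide)
  have e3 : w3 = -1 := hw3.trans (by decide)
  have g0 : C.s (C.c 0) = 11 ∨ C.s (C.c 0) = -9 := by push_cast at b0; omega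
  have g1 : C.s (C.c 1) = 6 ∨ C.s (C.c 1) = -14 := by push_cast at b1; omega
  have g2 : C.s (C.c 2) = 6 ∨ C.s (C.c 2) = -14 := by push_cast at b2; omega
  have g3 : C.s (C.c 3) = 4 := by push_cast at b3; omega
  rcases g0 with g0 | g0 <;> rcases g1 with g1 | g1 <;> rcases g2 with g2 | g2 <;> rw [g0, g1, g2, g3] at hsq <;>
    rcases s45 C with h | h <;> rw [h] at hsq <;> norm_num at hsq

theorem mem_th (h2 : ∃ i j, i ≠ j ∧ C.deg (C.c i) = 16 ∧ C.deg (C.c j) = 16) : C.th ∈ C.S ∧ C.th' ∈ C.S := by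
  obtain ⟨i, j, hij, hi, hj⟩ := h2
  have h01 : C.c i ≠ C.c j := fun h => hij (C.c_inj h)
  rcases C.eq_th hi with a0 | a0 <;> rcases C.eq_th hj with a1 | a1
  · exact absurd (a0.trans a1.symm) h01
  · exact ⟨C.mem_S.2 (Or.inr ⟨i, a0⟩), C.mem_S.2 (Or.inr ⟨j, a1⟩)⟩
  · exact ⟨C.mem_S.2 (Or.inr ⟨j, a1⟩), C.mem_S.2 (Or.inr ⟨i, a0⟩)⟩
  · exact absurd (a0.trans a1.symm) h01

theorem not_case1 (h : C.deg (C.c 0) = 11 ∧ C.deg (C.c 1) = 16 ∧ C.deg (C.c 2) = 16 ∧ C.deg (C.c 3) = 44) :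
    False := by
  obtain ⟨h0, h1, h2, h3⟩ := h
  have hth := mem_th C ⟨1, 2, by decide, h1, h2⟩
  obtain ⟨r, -, -, -, -, -, hin⟩ := C.caseB hth.1 hth.2 fun j => by
    fin_cases j <;> simp only [Fin.zero_eta, Fin.mk_one, Fin.reduceFinMk] <;> omega
  have hsq := (hin (fun i => C.s i * C.s i) fun i _ => mul_self_nonneg _).trans C.col'.2.2.1
  obtain ⟨w0, hw0, a0, b0, c0⟩ := sS C 0
  obtain ⟨w1, hw1, a1, b1, c1⟩ := sS C 1
  obtain ⟨w2, hw2, a2, b2, c2⟩ := sS C 2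
  obtain ⟨w3, hw3, a3, b3, c3⟩ := sS C 3
  rw [h0] at hw0 b0
  rw [h1] at hw1 b1
  rw [h2] at hw2 b2
  rw [h3] at hw3 b3
  have e0 : w0 = 1 := hw0.trans (by decide)
  have e1 : w1 = 1 := hw1.trans (by decide)
  have e2 : w2 = 1 := hw2.trans (by decide)
  have e3 : w3 = -1 := hw3.trans (by decide)
  have g1 : C.s (C.c 1) = -4 := by push_cast at b1; omega
  have g2 : C.s (C.c 2) = -4 := by push_cast at b2; omega
  have g3 : C.s (C.c 3) = 4 := by push_cast at b3; omega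
  have hr := C.rel_s
  rw [Fin.sum_univ_four, h0, h1, h2, h3, show sgn 11 = 1 by decide, show sgn 44 = -1 by decide,
    show sgn 16 = 1 by decide, g1, g2, g3] at hr
  have g0 : C.s (C.c 0) = 11 := by linarith
  rw [Fin.sum_univ_four, C.s_o, g0, g1, g2, g3, C.col'.1, s120] at hsq
  have k0 := mul_self_nonneg (C.s (r 0))
  have k1 := mul_self_nonneg (C.s (r 1))
  have k2 := mul_self_nonneg (C.s (r 2))
  rcases C.col'.2.1 with h | h <;> rcases s45 C with h' | h' <;> rw [h, h'] at hsq <;> linarith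

/-- the summand of the class constant `a(t, t, t)` -/
def T (i : I) : ℤ := C.s i ^ 3 * ((95040 / C.deg i : ℕ) : ℤ)

/-- the function which is used in the fourth case -/
def gg (i : I) : ℤ := 10 ^ 12 * (11 * C.s i + C.deg i) ^ 2 - 1331 * T C i - 95040 * (C.deg i : ℤ) ^ 2

theorem gg_nonneg (hdvd : ∀ i, C.deg i ∣ 95040) {i : I} (h : 55 ∣ C.deg i) : 0 ≤ gg C i := by
  obtain ⟨b1, b2⟩ := s_le C i
  have b3 := deg_le C i
  obtain ⟨k, hk⟩ := h
  obtain ⟨q, hq⟩ := hdvd i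
  have hd0 : 0 < C.deg i := by
    rcases Nat.eq_zero_or_pos (C.deg i) with h | h
    · rw [h, zero_mul] at hq; omega
    · exact h
  have hq' : 95040 / C.deg i = q := by rw [hq, Nat.mul_div_cancel_left _ hd0]
  unfold gg T
  rw [hq']
  by_cases h0 : 11 * C.s i + C.deg i = 0
  · rw [h0]
    have hs : C.s i = -(5 * k : ℤ) := by
      rw [hk] at h0
      push_cast at h0
      omega
    have hqk : (95040 : ℤ) = 55 * k * q := by
      have : 95040 = 55 * k * q := by rw [← hk]; exact hq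
      exact_mod_cast this
    have e : (C.deg i : ℤ) = 55 * k := by rw [hk]; push_cast; ring
    rw [hs, e]
    have e2 : (10 ^ 12 * 0 ^ 2 - 1331 * ((-(5 * k : ℤ)) ^ 3 * (q : ℤ)) - 95040 * (55 * (k : ℤ)) ^ 2 : ℤ) =
        3025 * (k : ℤ) ^ 2 * (55 * k * q - 95040) := by ring
    rw [e2, ← hqk]
    norm_num
  · have h1 : (1 : ℤ) ≤ (11 * C.s i + C.deg i) ^ 2 := by
      have : 0 < (11 * C.s i + C.deg i) ^ 2 := by positivity
      omega
    have hq1 : (q : ℤ) ≤ 95040 := by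
      have : q ≤ 95040 := Nat.le_of_dvd (by norm_num) ⟨C.deg i, by rw [hq]; ring⟩
      exact_mod_cast this
    have hq0 : (0 : ℤ) ≤ q := Int.natCast_nonneg q
    have hs3 : C.s i ^ 3 ≤ 3375 := by
      have : C.s i ^ 3 ≤ 15 ^ 3 := by
        have h2 : C.s i ≤ 15 := b2
        nlinarith [sq_nonneg (C.s i), sq_nonneg (C.s i + 15), sq_nonneg (C.s i - 15)]
      linarith
    have h2 : C.s i ^ 3 * (q : ℤ) ≤ 3375 * 95040 := by
      calc C.s i ^ 3 * (q : ℤ) ≤ 3375 * q := by nlinarith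
        _ ≤ 3375 * 95040 := by nlinarith
    nlinarith

theorem gg_known {i : I} {d : ℕ} {s : ℤ} (hd : C.deg i = d) (hs : C.s i = s) :
    gg C i = 10 ^ 12 * (11 * s + d) ^ 2 - 1331 * (s ^ 3 * ((95040 / d : ℕ) : ℤ)) - 95040 * (d : ℤ) ^ 2 := by
  unfold gg T
  rw [hd, hs]

theorem sum_gg (hsd : ∑ i, C.s i * C.deg i = 0) (hpos : 0 ≤ ∑ i, T C i) :
    ∑ i, gg C i ≤ 10 ^ 12 * 124080 - 95040 * 95040 := by
  have h1 : ∀ i, gg C i = 10 ^ 12 * 121 * (C.s i * C.s i) + 10 ^ 12 * 22 * (C.s i * C.deg i) +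
      (10 ^ 12 - 95040) * ((C.deg i : ℤ) * C.deg i) - 1331 * T C i := fun i => by
    unfold gg
    ring
  rw [Finset.sum_congr rfl fun i _ => h1 i, Finset.sum_sub_distrib, Finset.sum_add_distrib, Finset.sum_add_distrib,
    ← Finset.mul_sum, ← Finset.mul_sum, ← Finset.mul_sum, ← Finset.mul_sum, hsd, C.sum_dd]
  have h2 := C.col'.2.2.1
  linarith

theorem not_case4 (hdvd : ∀ i, C.deg i ∣ 95040) (hsd : ∑ i, C.s i * C.deg i = 0) (hpos : 0 ≤ ∑ i, T C i)
    (h : C.deg (C.c 0) = 16 ∧ C.deg (C.c 1) = 16 ∧ C.deg (C.c 2) = 66 ∧ C.deg (C.c 3) = 99) : False := by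
  obtain ⟨h0, h1, h2, h3⟩ := h
  have hth := mem_th C ⟨0, 1, by decide, h0, h1⟩
  have hn144 : ∀ j, C.deg (C.c j) ≠ 144 := fun j => by
    fin_cases j <;> simp only [Fin.zero_eta, Fin.mk_one, Fin.reduceFinMk] <;> omega
  obtain ⟨r, -, hcases, hrv, hrw, hrs, hin⟩ := C.caseB hth.1 hth.2 hn144
  have hsq := (hin (fun i => C.s i * C.s i) fun i _ => mul_self_nonneg _).trans C.col'.2.2.1
  have hg := (hin (gg C) fun i hi => gg_nonneg C hdvd hi).trans (sum_gg C hsd hpos)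
  obtain ⟨w0, hw0, a0, b0, c0⟩ := sS C 0
  obtain ⟨w1, hw1, a1, b1, c1⟩ := sS C 1
  obtain ⟨w2, hw2, a2, b2, c2⟩ := sS C 2
  obtain ⟨w3, hw3, a3, b3, c3⟩ := sS C 3
  rw [h0] at hw0 b0
  rw [h1] at hw1 b1
  rw [h2] at hw2 b2
  rw [h3] at hw3 b3
  have e0 : w0 = 1 := hw0.trans (by decide)
  have e1 : w1 = 1 := hw1.trans (by decide)
  have e2 : w2 = 1 := hw2.trans (by decide)
  have e3 : w3 = -1 := hw3.trans (by decide)
  have g0 : C.s (C.c 0) = -4 := by push_cast at b0; omega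
  have g1 : C.s (C.c 1) = -4 := by push_cast at b1; omega
  have g3 : C.s (C.c 3) = -1 := by push_cast at b3; omega
  have hr := C.rel_s
  rw [Fin.sum_univ_four, h0, h1, h2, h3, show sgn 66 = 1 by decide, show sgn 99 = -1 by decide,
    show sgn 16 = 1 by decide, g0, g1, g3] at hr
  have g2 : C.s (C.c 2) = 6 := by linarith
  -- the character of degree 144
  have h144 : C.c144 ∉ C.S := C.notMem_S (by rw [C.d144]; norm_num) fun j => by rw [C.d144]; exact hn144 j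
  have s144 : C.s C.c144 = -4 := by
    have k0 := C.v_abs_le h144
    have k1 := C.dvd_v C.c144
    have k2 := C.dvd_w C.c144
    rw [C.w_eq h144] at k2
    rw [C.d144] at k1
    rcases C.col'.2.1 with h | h
    · exfalso
      rw [h] at k2
      push_cast at k1
      omega
    · exact h
  rw [C.col'.1, s144, Fin.sum_univ_three] at hrs
  rw [Fin.sum_univ_four, C.s_o, g0, g1, g2, g3, C.col'.1, s120, s144] at hsq
  have hS45 : C.s C.c45 = 5 := by
    rcases s45 C with h | h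
    · exact h
    · exfalso
      rw [h] at hsq
      have k0 := mul_self_nonneg (C.s (r 0))
      have k1 := mul_self_nonneg (C.s (r 1))
      have k2 := mul_self_nonneg (C.s (r 2))
      linarith
  rw [hS45] at hsq
  rw [Fin.sum_univ_four, gg_known C C.deg_o C.s_o, gg_known C h0 g0, gg_known C h1 g1, gg_known C h2 g2,
    gg_known C h3 g3, gg_known C C.d45 hS45, gg_known C C.d54 C.col'.1, gg_known C C.d120 (s120 C),
    gg_known C C.d144 s144] at hg
  obtain ⟨p0, q0⟩ := s_le C (r 0)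
  obtain ⟨p1, q1⟩ := s_le C (r 1)
  obtain ⟨p2, q2⟩ := s_le C (r 2)
  have i0 := C.dvd_w (r 0)
  have i1 := C.dvd_w (r 1)
  have i2 := C.dvd_w (r 2)
  have j0 := C.dvd_s (r 0)
  have j1 := C.dvd_s (r 1)
  have j2 := C.dvd_s (r 2)
  rw [hrw, hrv] at i0 i1 i2
  rw [hrv, hrv, hrv] at hrs
  rcases hcases with ⟨m0, m1, m2⟩ | ⟨m0, m1, m2⟩ | ⟨m0, m1, m2⟩
  · rw [m0, show sgn 11 = 1 by decide] at i0
    rw [m1, show sgn 11 = 1 by decide] at i1
    rw [m2, show sgn 176 = 1 by decide] at i2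
    rw [m0] at j0
    rw [m1] at j1
    rw [m2] at j2
    push_cast at j0 j1 j2
    have n0 : C.s (r 0) = -1 := by omega
    have n1 : C.s (r 1) = -1 := by omega
    have n2 : C.s (r 2) = 4 := by omega
    rw [gg_known C m0 n0, gg_known C m1 n1, gg_known C m2 n2] at hg
    norm_num at hg
  · rw [m0, show sgn 44 = -1 by decide] at i0
    rw [m1, show sgn 66 = 1 by decide] at i1
    rw [m2, show sgn 176 = 1 by decide] at i2
    rw [m0, m1, m2, show sgn 44 = -1 by decide, show sgn 66 = 1 by decide, show sgn 176 = 1 by decide] at hrs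
    rw [m0] at j0
    rw [m1] at j1
    rw [m2] at j2
    push_cast at j0 j1 j2
    have n0 : C.s (r 0) = -4 := by omega
    have n2 : C.s (r 2) = 4 := by omega
    have n1 : C.s (r 1) = -6 := by omega
    rw [gg_known C m0 n0, gg_known C m1 n1, gg_known C m2 n2] at hg
    norm_num at hg
  · rw [m0, show sgn 66 = 1 by decide] at i0
    rw [m1, show sgn 66 = 1 by decide] at i1
    rw [m2, show sgn 66 = 1 by decide] at i2
    rw [m0, m1, m2, show sgn 66 = 1 by decide] at hrs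
    rw [m0] at j0
    rw [m1] at j1
    rw [m2] at j2
    push_cast at j0 j1 j2
    have n0 : C.s (r 0) = -6 ∨ C.s (r 0) = 14 := by omega
    have n1 : C.s (r 1) = -6 ∨ C.s (r 1) = 14 := by omega
    have n2 : C.s (r 2) = -6 ∨ C.s (r 2) = 14 := by omega
    rcases n0 with n0 | n0 <;> rcases n1 with n1 | n1 <;> rcases n2 with n2 | n2 <;>
      rw [n0, n1, n2] at hrs hsq <;> omega

/-- **The values at `t`.** -/
theorem final (hdvd : ∀ i, C.deg i ∣ 95040) (hsd : ∑ i, C.s i * C.deg i = 0) (hpos : 0 ≤ ∑ i, T C i) :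
    (C.deg (C.c 0) = 66 ∧ C.deg (C.c 1) = 99 ∧ C.deg (C.c 3) = 176) ∧ C.c 2 = C.c144 ∧
      C.s (C.c 0) = 6 ∧ C.s (C.c 1) = -1 ∧ C.s C.c144 = 4 ∧ C.s (C.c 3) = -4 ∧ C.s C.th = 4 ∧ C.s C.th' = 4 ∧
      C.s C.c45 = 5 ∧ C.s C.c54 = 6 ∧ C.s C.c120 = 0 ∧ C.th ∉ C.S ∧ C.th' ∉ C.S := by
  rcases C.cases with h | h | h | h | ⟨h0, h1, h2, h3⟩
  · exact (not_case1 C h).elim
  · exact (not_case2 C h).elim
  · exact (not_case3 C h).elim
  · exact (not_case4 C hdvd hsd hpos h).elim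
  have hc2 : C.c 2 = C.c144 := C.eq_c144 h2
  have h144 : C.c144 ∈ C.S := C.mem_S.2 (Or.inr ⟨2, hc2⟩)
  have h16 : ∀ j, C.deg (C.c j) ≠ 16 := fun j => by
    fin_cases j <;> simp only [Fin.zero_eta, Fin.mk_one, Fin.reduceFinMk] <;> omega
  have hsq := sq_A C h144 h16
  have hth : C.th ∉ C.S := C.notMem_S (by rw [C.dth]; norm_num) fun j => by
    rw [C.dth]; exact h16 j
  have hth' : C.th' ∉ C.S := C.notMem_S (by rw [C.dth']; norm_num) fun j => by
    rw [C.dth']; exact h16 j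
  obtain ⟨w0, hw0, a0, b0, c0⟩ := sS C 0
  obtain ⟨w1, hw1, a1, b1, c1⟩ := sS C 1
  obtain ⟨w2, hw2, a2, b2, c2⟩ := sS C 2
  obtain ⟨w3, hw3, a3, b3, c3⟩ := sS C 3
  rw [h0] at hw0 b0
  rw [h1] at hw1 b1
  rw [h2] at hw2 b2
  rw [h3] at hw3 b3
  have e0 : w0 = 1 := hw0.trans (by decide)
  have e1 : w1 = -1 := hw1.trans (by decide)
  have e2 : w2 = -1 := hw2.trans (by decide)
  have e3 : w3 = 1 := hw3.trans (by decide)
  have g1 : C.s (C.c 1) = -1 := by push_cast at b1; omega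
  have g2 : C.s (C.c 2) = 4 := by push_cast at b2; omega
  have g3 : C.s (C.c 3) = -4 := by push_cast at b3; omega
  have hr := C.rel_s
  rw [Fin.sum_univ_four, h0, h1, h2, h3, show sgn 66 = 1 by decide, show sgn 99 = -1 by decide,
    show sgn 144 = -1 by decide, show sgn 176 = 1 by decide, g1, g2, g3] at hr
  have g0 : C.s (C.c 0) = 6 := by linarith
  rw [g0, g1, g2, g3] at hsq
  have h45 : C.s C.c45 = 5 := by
    rcases s45 C with h | h
    · exact h
    · exfalso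
      rw [h] at hsq
      norm_num at hsq
  refine ⟨⟨h0, h1, h3⟩, hc2, g0, g1, ?_, g3, s_of_notMem C hth C.dth, s_of_notMem C hth' C.dth', h45, C.col'.1,
    s120 C, hth, hth'⟩
  rw [← hc2]
  exact g2

end Cfsg.Agent.H436.M23.Ar
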