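import Cfsg.Agent.H436.M23.BTwA
import Cfsg.Agent.H792.M23.Ty
import Cfsg.Agent.H691.M23.Main

/-!
# `(B23)` of (M,23): the characters of the Monster with `X(1) ≡ X(2A)` modulo 23 and `X(1)` prime to 23 are in the
principal 23-block (helper436)
-/

set_option autoImplicit false
set_option linter.unusedSectionVars false
set_option maxRecDepth 100000

open Cfsg Subgroup
open Cfsg.Agent.Blocks.Basic Cfsg.Agent.Blocks.Local
open scoped ComplexConjugate

namespace Cfsg.Agent.H436.M23.BTw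

open Cfsg.Agent.MonsterX Cfsg.Agent.MonsterX.InstData Cfsg.Agent.MonsterX.MainPack
open Cfsg.Agent.BpSpor.MBigModel
open Cfsg.Agent.LThreeB.Row (TA)
open Cfsg.Agent.LThreeMB (XX mk Zx self)
open Cfsg.Agent.SmallSimple.ThetaSetup
open Cfsg.Agent.H606.OreM Cfsg.Agent.H606.OreM.Exact
open Cfsg.Agent.H792.M23.Loc Cfsg.Agent.H792.M23.TyA Cfsg.Agent.H792.M23.TyK Cfsg.Agent.H924.M23
open Cfsg.Agent.H792.M23.Ty
open Cfsg.Agent.H691.M23 (BTwentyThree)

/-- **(B23)** -/
theorem b23 {t : MG} (ht : TA t) : BTwentyThree t := by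
  intro M hM X d b hd hb hd23 hdb
  have hp : Fact (Nat.Prime 23) := ⟨by norm_num⟩
  have hpi : Prime (23 : ℤ) := Nat.prime_iff_prime_int.1 (by norm_num : Nat.Prime 23)
  obtain ⟨x, hx⟩ := exists_x (r := 23) (by norm_num) (by norm_num)
  have hC : Nat.card (centralizer ({x} : Set MG)) = 23 * 24 := by rw [H715.Mon.Exact.card23 sThree hx]
  have hT : ∀ t : MG, TA t → t * x = x * t →
      Nat.card (centralizer ({x} : Set MG) ⊓ centralizer ({t} : Set MG) : Subgroup MG) = 23 * 4 := fun t ht htx => by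
    rw [(H715.Mon.Exact.main23 sThree hx (H58.Cop.MLow.orderOf_ta ht) htx (by rw [card_cent_t ht])).2]
  have hcol : H792.M23.Ty.colOK 23 24 4 11 2 6 = true := by decide +kernel
  simp only [H792.M23.Ty.colOK, Bool.and_eq_true, Nat.beq_eq, bne_iff_ne, ne_eq] at hcol
  obtain ⟨⟨⟨⟨⟨⟨hnum, hs⟩, hcs⟩, hr2⟩, hmod⟩, hA⟩, hkr⟩ := hcol
  obtain ⟨w, hw1, hw2⟩ := omega_int X t hb
  rw [index_A ht] at hw2
  have hdeg := deg_eq X hd
  have hw3 : w * d = (nA : ℤ) * b := by rw [← hdeg, ← hw2]; ring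
  have htt : t * t = 1 := by
    rw [← pow_two, ← H58.Cop.MLow.orderOf_ta ht, pow_orderOf_eq_one]
  have hχ : ¬ 23 ∣ charDegree (X : MG → ℂ) := by
    intro h
    apply hd23
    rw [← hdeg]
    exact_mod_cast h
  have hws : (23 : ℤ) ∣ w - (6 : ℕ) := by
    have h1 : (23 : ℤ) ∣ (w - nA) * d := by
      have h2 : (w - nA) * d = -(nA * (d - b)) := by
        linear_combination hw3
      rw [h2]
      exact (dvd_neg).2 (Dvd.dvd.mul_left hdb _)
    have h3 := (hpi.dvd_or_dvd h1).resolve_right hd23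
    have h4 : ((23 : ℕ) : ℤ) ∣ ((nA : ℕ) : ℤ) - ((6 : ℕ) : ℤ) := Nat.modEq_iff_dvd.1 hmod.symm
    have h5 : w - ((6 : ℕ) : ℤ) = (w - nA) + (((nA : ℕ) : ℤ) - ((6 : ℕ) : ℤ)) := by ring
    rw [h5]
    exact dvd_add h3 h4
  refine BTwA.mem_principal not_comm_MG (N := NM) card_M hx hC 11 2 hnum htt (by norm_num) (c := 4) (s := 6)
    (index_A ht) (by norm_num)
    (fun u hu hux => hT u (ta_of_isConj ht hu) hux) hs X hχ hw1 hws (by norm_num) ?_ ?_ hM
  · intro n hn
    have : n < 5 := by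
      by_contra h
      push Not at h
      have := Nat.mul_le_mul h h
      omega
    omega
  · intro K hK hk t0 h2 hct θ hθ
    obtain ⟨v, hv⟩ := exists_v hx
    obtain ⟨e⟩ := comp_iso hx hK hk hC
    have h5 : Nat.card (centralizer ({e.symm v} : Set K)) = 3 := by
      rw [LThreeB.card_centralizer_congr e, e.apply_symm_apply, hv]
    exact BTwA.one_of_value hk h5 h2 hct θ hθ

end Cfsg.Agent.H436.M23.BTw
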