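import Cfsg.Agent.H591.M23.Blk
import Cfsg.Agent.H76.GLB.ProdBlk
import Cfsg.Agent.H593.D1Sec
import Cfsg.Agent.Blocks.PrincipalSection
import Cfsg.Agent.H633.Unique
import Cfsg.Agent.S0914
import Cfsg.Agent.H436.M23.Iface

/-!
# The section of an element `x` of order `p` with `C(x) = ⟨x⟩ × T` (helper436)

`f t = X (x t)` for `t` in `T`.  `caseA` : `X` in the principal block; `caseB` : `X` not in the principal block.
-/

set_option autoImplicit false
set_option linter.unusedSectionVars false

namespace Cfsg.Agent.H436.M23.Sec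

open Cfsg
open Cfsg.Agent.Blocks.Basic Cfsg.Agent.Blocks.Local
open Cfsg.Agent.Characters.Core
open Cfsg.Agent.H66.LD.Three
open Cfsg.Agent.H466.Sl (outer outer_apply outer_injective)
open Cfsg.Agent.H76.GLB (centralChar_outer exists_outer)
open scoped ComplexConjugate

universe v

variable {G : Type v} [Group G]

section Zp

variable {x : G}

theorem comm_zp (a b : Subgroup.zpowers x) : a * b = b * a := by
  obtain ⟨m, hm⟩ := Subgroup.mem_zpowers_iff.1 a.2
  obtain ⟨n, hn⟩ := Subgroup.mem_zpowers_iff.1 b.2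
  apply Subtype.ext
  rw [Subgroup.coe_mul, Subgroup.coe_mul, ← hm, ← hn, ← zpow_add, ← zpow_add, add_comm]

theorem irr_zp_one (μ : IrrCharacter (Subgroup.zpowers x)) : (μ : Subgroup.zpowers x → ℂ) 1 = 1 :=
  Characters.CCBasic.irr_apply_one_of_comm comm_zp μ.2

theorem centralChar_zp (μ : IrrCharacter (Subgroup.zpowers x)) (z : Subgroup.zpowers x) :
    centralChar (μ : Subgroup.zpowers x → ℂ) z = (μ : Subgroup.zpowers x → ℂ) z := by
  have h1 : Subgroup.centralizer ({z} : Set (Subgroup.zpowers x)) = ⊤ := by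
    rw [eq_top_iff]
    intro y _
    rw [Subgroup.mem_centralizer_singleton_iff]
    exact comm_zp y z
  unfold centralChar
  rw [h1, Subgroup.index_top, irr_zp_one]
  simp

theorem irr_zp_pow {p : ℕ} (hx : orderOf x = p) (μ : IrrCharacter (Subgroup.zpowers x)) (z : Subgroup.zpowers x) :
    (μ : Subgroup.zpowers x → ℂ) z ^ p = 1 := by
  obtain ⟨f, hf⟩ := Characters.CCBasic.exists_hom_of_comm comm_zp μ.2
  have h1 : z ^ p = 1 := by
    obtain ⟨m, hm⟩ := Subgroup.mem_zpowers_iff.1 z.2
    apply Subtype.ext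
    rw [Subgroup.coe_pow, ← hm, ← zpow_natCast, ← zpow_mul, mul_comm, zpow_mul, zpow_natCast, ← hx,
      pow_orderOf_eq_one, one_zpow]
    rfl
  rw [hf]
  change ((f z : ℂˣ) : ℂ) ^ p = 1
  rw [← Units.val_pow_eq_pow_val, ← map_pow, h1, map_one, Units.val_one]

/-- the values of the characters of `⟨x⟩` are congruent to `1` -/
theorem irr_zp_sub {p : ℕ} (hx : orderOf x = p) {M : Ideal AlgInt} (hM : IsPModular p M)
    (μ : IrrCharacter (Subgroup.zpowers x)) (z : Subgroup.zpowers x) :
    MemLocalIdeal M ((μ : Subgroup.zpowers x → ℂ) z - 1) :=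
  Cfsg.Agent.Blocks.PrincipalConst.memLocalIdeal_sub_one_of_pow_eq_one hM (irr_zp_pow hx μ z)

end Zp

section Prod

variable [Finite G] {p : ℕ} [hp : Fact p.Prime] {x : G} {C T : Subgroup G}

theorem same_iff (hx : orderOf x = p) {M : Ideal AlgInt} (hM : IsPModular p M) (E : (Subgroup.zpowers x) × T ≃* C)
    (μ μ' : IrrCharacter (Subgroup.zpowers x)) (lam lam' : IrrCharacter T) :
    SameBlock M (outer C E (μ, lam) : C → ℂ) (outer C E (μ', lam') : C → ℂ) ↔
      SameBlock M (lam : T → ℂ) (lam' : T → ℂ) := by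
  have := isPrime_of_isPModular hM
  constructor
  · intro h t
    have h1 := h (E (1, t))
    rw [centralChar_outer, centralChar_outer, centralChar_zp, centralChar_zp, irr_zp_one, irr_zp_one, one_mul,
      one_mul] at h1
    exact h1
  · intro h c
    obtain ⟨⟨z, t⟩, rfl⟩ := E.surjective c
    rw [centralChar_outer, centralChar_outer, centralChar_zp, centralChar_zp]
    have e : (μ : Subgroup.zpowers x → ℂ) z * centralChar (lam : T → ℂ) t -
        (μ' : Subgroup.zpowers x → ℂ) z * centralChar (lam' : T → ℂ) t =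
        (((μ : Subgroup.zpowers x → ℂ) z - 1) * centralChar (lam : T → ℂ) t -
          ((μ' : Subgroup.zpowers x → ℂ) z - 1) * centralChar (lam' : T → ℂ) t) +
        (centralChar (lam : T → ℂ) t - centralChar (lam' : T → ℂ) t) := by
      ring
    change MemLocalIdeal M ((μ : Subgroup.zpowers x → ℂ) z * centralChar (lam : T → ℂ) t -
      (μ' : Subgroup.zpowers x → ℂ) z * centralChar (lam' : T → ℂ) t)
    rw [e]
    exact memLocalIdeal_add (memLocalIdeal_sub (memLocalIdeal_mul_right (irr_zp_sub hx hM μ z)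
      (Cfsg.Agent.H648.Dict.memLocalRing_centralChar lam t)) (memLocalIdeal_mul_right (irr_zp_sub hx hM μ' z)
      (Cfsg.Agent.H648.Dict.memLocalRing_centralChar lam' t))) (h t)

/-- the trivial character as an outer product -/
theorem outer_one (E : (Subgroup.zpowers x) × T ≃* C) :
    (outer C E (⟨1, isIrr_one⟩, ⟨1, isIrr_one⟩) : C → ℂ) = fun _ => (1 : ℂ) := by
  funext c
  obtain ⟨q, rfl⟩ := E.surjective c
  rw [outer_apply]
  simp

theorem mem_principal_iff (hx : orderOf x = p) {M : Ideal AlgInt} (hM : IsPModular p M)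
    (E : (Subgroup.zpowers x) × T ≃* C) (μ : IrrCharacter (Subgroup.zpowers x)) (lam : IrrCharacter T) :
    outer C E (μ, lam) ∈ principalBlock M C ↔ lam ∈ principalBlock M T := by
  have h := same_iff hx hM E ⟨1, isIrr_one⟩ μ ⟨1, isIrr_one⟩ lam
  rw [outer_one] at h
  exact h

variable [Fintype C] [Fintype T] [Fintype (IrrCharacter (Subgroup.zpowers x))] [Fintype (IrrCharacter T)]

/-- the expansion of a class function on `C` -/
theorem expand (E : (Subgroup.zpowers x) × T ≃* C) {F : C → ℂ} (hF : IsClassFunction C F) (c : C) :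
    F c = ∑ lam : IrrCharacter T, ∑ μ : IrrCharacter (Subgroup.zpowers x),
      classInner F (outer C E (μ, lam) : C → ℂ) * (outer C E (μ, lam) : C → ℂ) c := by
  classical
  have : Finite (IrrCharacter C) := finite_irr
  have : Fintype (IrrCharacter C) := Fintype.ofFinite _
  let e : IrrCharacter T × IrrCharacter (Subgroup.zpowers x) ≃ IrrCharacter C :=
    (Equiv.prodComm _ _).trans (Equiv.ofBijective (outer C E) ⟨outer_injective C E, fun ψ => by
      obtain ⟨a, b, h⟩ := exists_outer E ψ
      exact ⟨(a, b), h.symm⟩⟩)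
  have h1 := congrFun (classFunction_eq_sum hF) c
  rw [h1, Finset.sum_apply, ← Fintype.sum_prod_type']
  refine (Fintype.sum_equiv e _ _ fun q => ?_).symm
  rfl

theorem outer_res (E : (Subgroup.zpowers x) × T ≃* C) (μ : IrrCharacter (Subgroup.zpowers x))
    (lam : IrrCharacter T) (t : T) : (outer C E (μ, lam) : C → ℂ) (E (1, t)) = (lam : T → ℂ) t := by
  rw [outer_apply]
  change (μ : Subgroup.zpowers x → ℂ) 1 * (lam : T → ℂ) t = _
  rw [irr_zp_one, one_mul]

/-- the restriction to `T` -/
theorem inner_res (E : (Subgroup.zpowers x) × T ≃* C) {F : C → ℂ} (hF : IsClassFunction C F) (lam : IrrCharacter T) :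
    classInner (fun t : T => F (E (1, t))) (lam : T → ℂ) =
      ∑ μ : IrrCharacter (Subgroup.zpowers x), classInner F (outer C E (μ, lam) : C → ℂ) := by
  classical
  have h1 : (fun t : T => F (E (1, t))) = ∑ lam' : IrrCharacter T,
      (∑ μ : IrrCharacter (Subgroup.zpowers x), classInner F (outer C E (μ, lam') : C → ℂ)) • (lam' : T → ℂ) := by
    funext t
    rw [expand E hF, Finset.sum_apply]
    refine Finset.sum_congr rfl fun lam' _ => ?_
    rw [Pi.smul_apply, smul_eq_mul, Finset.sum_mul]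
    refine Finset.sum_congr rfl fun μ _ => ?_
    rw [outer_res]
  rw [h1]
  exact classInner_sum_smul_irr _ lam

/-- the block part at an element of `T` -/
theorem blockPart_expand (E : (Subgroup.zpowers x) × T ≃* C) (F : C → ℂ) (b : Set (IrrCharacter C))
    [DecidablePred (· ∈ b)] (t : T) :
    blockPart b F (E (1, t)) = ∑ lam : IrrCharacter T, (∑ μ : IrrCharacter (Subgroup.zpowers x),
      if outer C E (μ, lam) ∈ b then classInner F (outer C E (μ, lam) : C → ℂ) else 0) * (lam : T → ℂ) t := by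
  classical
  have : Finite (IrrCharacter C) := finite_irr
  have : Fintype (IrrCharacter C) := Fintype.ofFinite _
  let e : IrrCharacter T × IrrCharacter (Subgroup.zpowers x) ≃ IrrCharacter C :=
    (Equiv.prodComm _ _).trans (Equiv.ofBijective (outer C E) ⟨outer_injective C E, fun ψ => by
      obtain ⟨a, b, h⟩ := exists_outer E ψ
      exact ⟨(a, b), h.symm⟩⟩)
  have h1 : blockPart b F (E (1, t)) = ∑ᶠ χ ∈ b, classInner F (χ : C → ℂ) * (χ : C → ℂ) (E (1, t)) := by
    unfold blockPart
    refine finsum_mem_congr rfl fun χ _ => ?_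
    congr 1
    convert rfl
  rw [h1, Cfsg.Agent.Blocks.Orthogonality.finsum_mem_eq_sum_filter, Finset.sum_filter]
  have h2 : ∑ χ : IrrCharacter C, (if χ ∈ b then classInner F (χ : C → ℂ) * (χ : C → ℂ) (E (1, t)) else 0) =
      ∑ q : IrrCharacter T × IrrCharacter (Subgroup.zpowers x), (if outer C E (q.2, q.1) ∈ b then
        classInner F (outer C E (q.2, q.1) : C → ℂ) else 0) * (q.1 : T → ℂ) t := by
    refine (Fintype.sum_equiv e _ _ fun q => ?_).symm
    have h3 : e q = outer C E (q.2, q.1) := rfl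
    rw [h3, outer_res]
    split_ifs
    · rfl
    · rw [zero_mul]
  rw [h2, Fintype.sum_prod_type]
  refine Finset.sum_congr rfl fun lam _ => ?_
  rw [Finset.sum_mul]

end Prod

/-- `C(x) = ⟨x⟩ × T` -/
structure Dat (p : ℕ) (x : G) (C T : Subgroup G) : Prop where
  ord : orderOf x = p
  cent : C = Subgroup.centralizer ({x} : Set G)
  le : T ≤ C
  card : Nat.card C = p * Nat.card T
  notMem : x ∉ T

section Main

variable [Finite G] {p : ℕ} [hp : Fact p.Prime] {x : G} {C T : Subgroup G}

theorem Dat.comm (D : Dat p x C T) (c : C) : Commute x (c : G) := by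
  have h1 : (c : G) ∈ Subgroup.centralizer ({x} : Set G) := by rw [← D.cent]; exact c.2
  exact (Subgroup.mem_centralizer_singleton_iff.1 h1).symm

theorem Dat.class (D : Dat p x C T) (X : IrrCharacter G) :
    IsClassFunction C (fun c : C => (X : G → ℂ) (x * (c : G))) := by
  intro g h
  change (X : G → ℂ) (x * ((h : G) * g * (h : G)⁻¹)) = (X : G → ℂ) (x * g)
  have h1 : x * ((h : G) * g * (h : G)⁻¹) = (h : G) * (x * g) * (h : G)⁻¹ := by
    have := (D.comm h).eq
    rw [← mul_assoc, ← mul_assoc, this, mul_assoc (h : G) x]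
  rw [h1, isIrr_isClassFunction X.2]

/-- a character of degree divisible by `p` has defect zero -/
theorem not_dvd_div {lam : IrrCharacter T} (hT : (Nat.card T).factorization p = 1)
    (hlam : p ∣ charDegree (lam : T → ℂ)) : ¬ p ∣ Nat.card T / charDegree (lam : T → ℂ) := by
  have h0 := (charDegree_pos lam.2).ne'
  have h1 := Cfsg.Agent.Blocks.Knorr.charDegree_dvd lam.2
  obtain ⟨k, hk⟩ := h1
  have hk0 : k ≠ 0 := by
    rintro rfl
    rw [mul_zero] at hk
    exact Nat.card_pos.ne' hk
  have h2 : 1 ≤ (charDegree (lam : T → ℂ)).factorization p := (hp.out.dvd_iff_one_le_factorization h0).1 hlam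
  rw [hk, Nat.mul_div_cancel_left _ (charDegree_pos lam.2)]
  intro h3
  have h4 := (hp.out.dvd_iff_one_le_factorization hk0).1 h3
  rw [hk, Nat.factorization_mul h0 hk0, Finsupp.add_apply] at hT
  omega

theorem deg_fact {lam : IrrCharacter T} (hT : (Nat.card T).factorization p = 1)
    (hlam : p ∣ charDegree (lam : T → ℂ)) :
    (charDegree (lam : T → ℂ)).factorization p = (Nat.card T).factorization p := by
  have h0 := (charDegree_pos lam.2).ne'
  have h1 := Cfsg.Agent.Blocks.Knorr.charDegree_dvd lam.2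
  have h2 : 1 ≤ (charDegree (lam : T → ℂ)).factorization p := (hp.out.dvd_iff_one_le_factorization h0).1 hlam
  have h3 := (Nat.factorization_le_iff_dvd h0 Nat.card_pos.ne').2 h1 p
  omega

theorem dvd_card_T (hT : (Nat.card T).factorization p = 1) : p ∣ Nat.card T :=
  (hp.out.dvd_iff_one_le_factorization Nat.card_pos.ne').2 hT.ge

/-- a character of `T` of degree divisible by `p` is not in the principal block -/
theorem notMem_principal {M : Ideal AlgInt} (hM : IsPModular p M) {lam : IrrCharacter T}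
    (hT : (Nat.card T).factorization p = 1) (hlam : p ∣ charDegree (lam : T → ℂ)) : lam ∉ principalBlock M T := by
  intro h
  have := isPrime_of_isPModular hM
  have h1 := (Cfsg.Agent.S0914.result p M hM lam).1 (not_dvd_div hT hlam)
  have h2 : (⟨fun _ => 1, isIrr_one⟩ : IrrCharacter T) ∈
      blockOf M (lam : T → ℂ) := sameBlock_symm h
  rw [h1, Set.mem_singleton_iff] at h2
  rw [← h2] at hlam
  have h3 : charDegree (fun _ : T => (1 : ℂ)) = 1 := by
    unfold charDegree
    norm_num
  have h4 : p ∣ charDegree (fun _ : T => (1 : ℂ)) := hlam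
  rw [h3, Nat.dvd_one] at h4
  exact hp.out.one_lt.ne' h4

/-- **Case A**: `X` in the principal block. -/
theorem caseA {M : Ideal AlgInt} (hM : IsPModular p M) (D : Dat p x C T) [Fintype T]
    (hT : (Nat.card T).factorization p = 1) (X : IrrCharacter G) (hX : X ∈ principalBlock M G)
    (lam : IrrCharacter T) (hlam : p ∣ charDegree (lam : T → ℂ)) :
    classInner (fun t : T => (X : G → ℂ) (x * (t : G))) (lam : T → ℂ) = 0 := by
  classical
  have hMp := isPrime_of_isPModular hM
  have : Fintype C := Fintype.ofFinite C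
  have : Fintype (Subgroup.zpowers x) := Fintype.ofFinite _
  have : Finite (IrrCharacter T) := finite_irr
  have : Fintype (IrrCharacter T) := Fintype.ofFinite _
  have : Finite (IrrCharacter (Subgroup.zpowers x)) := finite_irr
  have : Fintype (IrrCharacter (Subgroup.zpowers x)) := Fintype.ofFinite _
  obtain ⟨E, hE⟩ := exists_equiv D.ord D.cent D.le D.card D.notMem
  set F : C → ℂ := fun c : C => (X : G → ℂ) (x * (c : G)) with hF
  have hFc : IsClassFunction C F := D.class X
  have hf : (fun t : T => (X : G → ℂ) (x * (t : G))) = fun t : T => F (E (1, t)) := by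
    funext t
    rw [hF]
    change _ = (X : G → ℂ) (x * ((E (1, t) : C) : G))
    rw [hE, Subgroup.coe_one, one_mul]
  rw [hf, inner_res E hFc]
  obtain ⟨μ₀⟩ : Nonempty (IrrCharacter (Subgroup.zpowers x)) := ⟨⟨1, isIrr_one⟩⟩
  have hsingle := (Cfsg.Agent.S0914.result p M hM lam).1 (not_dvd_div hT hlam)
  have hmem : ∀ (μ : IrrCharacter (Subgroup.zpowers x)) (lam' : IrrCharacter T),
      outer C E (μ, lam') ∈ blockOf M (outer C E (μ₀, lam) : C → ℂ) ↔ lam' = lam := by
    intro μ lam'
    have h1 := same_iff D.ord hM E μ₀ μ lam lam'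
    have h2 : SameBlock M (lam : T → ℂ) (lam' : T → ℂ) ↔ lam' ∈ blockOf M (lam : T → ℂ) := Iff.rfl
    rw [hsingle, Set.mem_singleton_iff] at h2
    exact h1.trans h2
  have hnot : ¬ IsInducedBlock M C (blockOf M (outer C E (μ₀, lam) : C → ℂ)) (principalBlock M G) := by
    rw [← Cfsg.Agent.Blocks.PrincipalSection.mem_principalBlock_iff_induced hM x ⟨1, by rw [D.ord, pow_one]⟩ D.cent,
      mem_principal_iff D.ord hM]
    exact notMem_principal hM hT hlam
  have hz := Cfsg.Agent.H593.D1Sec.second_main hM C x D.cent ⟨1, by rw [D.ord, pow_one]⟩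
    Cfsg.Agent.Blocks.PrincipalSection.isPBlock_principalBlock hX (isPBlock_blockOf (outer C E (μ₀, lam))) hnot
    (E (1, 1)) (by
      have h1 : E ((1 : Subgroup.zpowers x), (1 : T)) = 1 := map_one E
      rw [h1, orderOf_one]
      exact fun h2 => hp.out.one_lt.ne' (Nat.dvd_one.1 h2))
  change blockPart _ F _ = 0 at hz
  rw [blockPart_expand, Finset.sum_eq_single lam] at hz
  · have h1 : (∑ μ : IrrCharacter (Subgroup.zpowers x),
        if outer C E (μ, lam) ∈ blockOf M (outer C E (μ₀, lam) : C → ℂ) then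
          classInner F (outer C E (μ, lam) : C → ℂ) else 0) =
        ∑ μ : IrrCharacter (Subgroup.zpowers x), classInner F (outer C E (μ, lam) : C → ℂ) :=
      Finset.sum_congr rfl fun μ _ => if_pos ((hmem μ lam).2 rfl)
    rw [h1] at hz
    exact (mul_eq_zero.1 hz).resolve_right (isIrr_apply_one_ne_zero lam.2)
  · intro lam' _ hne
    have h1 : (∑ μ : IrrCharacter (Subgroup.zpowers x),
        if outer C E (μ, lam') ∈ blockOf M (outer C E (μ₀, lam) : C → ℂ) then
          classInner F (outer C E (μ, lam') : C → ℂ) else 0) = 0 :=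
      Finset.sum_eq_zero fun μ _ => if_neg fun h2 => hne ((hmem μ lam').1 h2)
    rw [h1, zero_mul]
  · intro h1
    exact absurd (Finset.mem_univ _) h1

/-- **Case B**: `X` not in the principal block. -/
theorem caseB {M : Ideal AlgInt} (hM : IsPModular p M) (D : Dat p x C T) [Fintype T]
    (hT : (Nat.card T).factorization p = 1)
    (hQ : ∀ lam : IrrCharacter T, ¬ p ∣ charDegree (lam : T → ℂ) → lam ∈ principalBlock M T)
    (X : IrrCharacter G) (hX : X ∉ principalBlock M G) (t : T) (ht : ¬ p ∣ orderOf t) :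
    (X : G → ℂ) (x * (t : G)) = ∑ᶠ lam ∈ {lam : IrrCharacter T | p ∣ charDegree (lam : T → ℂ)},
      classInner (fun t : T => (X : G → ℂ) (x * (t : G))) (lam : T → ℂ) * (lam : T → ℂ) t := by
  classical
  have hMp := isPrime_of_isPModular hM
  have : Fintype C := Fintype.ofFinite C
  have : Fintype (Subgroup.zpowers x) := Fintype.ofFinite _
  have : Finite (IrrCharacter T) := finite_irr
  have : Fintype (IrrCharacter T) := Fintype.ofFinite _
  have : Finite (IrrCharacter (Subgroup.zpowers x)) := finite_irr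
  have : Fintype (IrrCharacter (Subgroup.zpowers x)) := Fintype.ofFinite _
  obtain ⟨E, hE⟩ := exists_equiv D.ord D.cent D.le D.card D.notMem
  set F : C → ℂ := fun c : C => (X : G → ℂ) (x * (c : G)) with hF
  have hFc : IsClassFunction C F := D.class X
  have hft : ∀ t : T, (X : G → ℂ) (x * (t : G)) = F (E (1, t)) := by
    intro t
    rw [hF]
    change _ = (X : G → ℂ) (x * ((E (1, t) : C) : G))
    rw [hE, Subgroup.coe_one, one_mul]
  have hf : (fun t : T => (X : G → ℂ) (x * (t : G))) = fun t : T => F (E (1, t)) := funext hft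
  rw [hf, hft]
  have hnot : ¬ IsInducedBlock M C (principalBlock M C) (blockOf M (X : G → ℂ)) := by
    intro h1
    have h2 : IsInducedBlock M C (principalBlock M C) (principalBlock M G) :=
      (Cfsg.Agent.Blocks.PrincipalSection.mem_principalBlock_iff_induced hM x ⟨1, by rw [D.ord, pow_one]⟩ D.cent
        ⟨fun _ => 1, isIrr_one⟩).1 (sameBlock_refl _)
    have h3 := Cfsg.Agent.H593.D1Sec.induced_unique h1 h2
    apply hX
    rw [← h3]
    exact mem_blockOf_self X
  have hz := Cfsg.Agent.H593.D1Sec.second_main hM C x D.cent ⟨1, by rw [D.ord, pow_one]⟩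
    (isPBlock_blockOf X) (mem_blockOf_self X) Cfsg.Agent.Blocks.PrincipalSection.isPBlock_principalBlock hnot
    (E (1, t)) (by
      have h1 : orderOf (E ((1 : Subgroup.zpowers x), t)) = orderOf t := by
        rw [← Subgroup.orderOf_coe, hE, Subgroup.coe_one, one_mul, Subgroup.orderOf_coe]
      rwa [h1])
  change blockPart _ F _ = 0 at hz
  rw [blockPart_expand] at hz
  rw [Cfsg.Agent.Blocks.Orthogonality.finsum_mem_eq_sum_filter, Finset.sum_filter, expand E hFc]
  have key : ∀ {A B R : ℂ}, B = 0 → A - B = R → A = R := by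
    intro A B R h1 h2
    rw [← h2, h1, sub_zero]
  refine key hz ?_
  rw [← Finset.sum_sub_distrib]
  refine Finset.sum_congr rfl fun lam _ => ?_
  by_cases hlam : p ∣ charDegree (lam : T → ℂ)
  · rw [if_pos (show lam ∈ {lam : IrrCharacter T | p ∣ charDegree (lam : T → ℂ)} from hlam), inner_res E hFc,
      Finset.sum_mul, Finset.sum_mul, ← Finset.sum_sub_distrib]
    refine Finset.sum_congr rfl fun μ _ => ?_
    rw [if_neg (by rw [mem_principal_iff D.ord hM]; exact notMem_principal hM hT hlam), outer_res]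
    ring
  · rw [if_neg (show lam ∉ {lam : IrrCharacter T | p ∣ charDegree (lam : T → ℂ)} from hlam), Finset.sum_mul,
      ← Finset.sum_sub_distrib]
    refine Finset.sum_eq_zero fun μ _ => ?_
    rw [if_pos (by rw [mem_principal_iff D.ord hM]; exact hQ lam hlam), outer_res]
    ring

end Main

section Inv

variable [Finite G] {p : ℕ} [hp : Fact p.Prime] {u : G} {C T : Subgroup G}

/-- `x` is rational and `N(⟨x⟩)` normalizes `T` -/
structure Rat (p : ℕ) (x : G) (C T : Subgroup G) : Prop extends Dat p x C T where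
  pows : ∀ k : ℕ, ¬ p ∣ k → ∃ n : G, n * x * n⁻¹ = x ^ k
  norm : ∀ g ∈ Subgroup.normalizer ((Subgroup.zpowers x : Subgroup G) : Set G), ∀ t ∈ T, g * t * g⁻¹ ∈ T

theorem mem_norm (hx : orderOf u = p) {n : G} {k : ℕ} (hk : ¬ p ∣ k) (hn : n * u * n⁻¹ = u ^ k) :
    n ∈ Subgroup.normalizer ((Subgroup.zpowers u : Subgroup G) : Set G) := by
  have h1 : Subgroup.map (MulAut.conj n).toMonoidHom (Subgroup.zpowers u) = Subgroup.zpowers u := by
    rw [MonoidHom.map_zpowers]
    have h2 : (MulAut.conj n).toMonoidHom u = u ^ k := by simpa using hn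
    rw [h2]
    apply Subgroup.eq_of_le_of_card_ge
    · rw [Subgroup.zpowers_le]
      exact pow_mem (Subgroup.mem_zpowers u) k
    · rw [Nat.card_zpowers, Nat.card_zpowers, Nat.Coprime.orderOf_pow]
      rw [hx]
      exact (Nat.Prime.coprime_iff_not_dvd hp.out).2 hk
  rw [Subgroup.mem_normalizer_iff]
  intro z
  constructor
  · intro hz
    rw [← h1]
    exact ⟨z, hz, by simp⟩
  · intro hz
    rw [← h1] at hz
    obtain ⟨y, hy, hyz⟩ := hz
    have h3 : n * y * n⁻¹ = n * z * n⁻¹ := by simpa using hyz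
    have h4 : y = z := by
      have := mul_right_cancel h3
      exact mul_left_cancel this
    rw [← h4]
    exact hy

/-- conjugation with an element which normalizes `T` -/
theorem exists_aut {g : G} (hg : ∀ t ∈ T, g * t * g⁻¹ ∈ T) : ∃ σ : T ≃* T, ∀ t : T, ((σ t : T) : G) = g * t * g⁻¹ := by
  let f : T →* T :=
    { toFun := fun t => ⟨g * t * g⁻¹, hg t t.2⟩
      map_one' := Subtype.ext (by simp)
      map_mul' := fun a b => Subtype.ext (by
        change g * ((a : G) * b) * g⁻¹ = g * a * g⁻¹ * (g * b * g⁻¹)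
        group) }
  have hf : Function.Injective f := by
    intro a b hab
    have h3 : g * (a : G) * g⁻¹ = g * (b : G) * g⁻¹ := congrArg Subtype.val hab
    exact Subtype.ext (mul_left_cancel (mul_right_cancel h3))
  exact ⟨MulEquiv.ofBijective f (Finite.injective_iff_bijective.1 hf), fun t => rfl⟩

/-- the inner product of `t ↦ χ (u t)` with an invariant character is an integer (as in `H591.M23.Blk.exists_int`) -/
theorem exists_int {θ : T → ℂ} (h : Rat p u C T) (hθ : IsCharacter T θ)
    (hinv : ∀ (σ : T ≃* T) (t : T), θ (σ t) = θ t) [Fintype T] {χ : G → ℂ} (hχ : IsCharacter G χ) :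
    ∃ a : ℤ, classInner (fun t : T => χ (u * t)) θ = a := by
  obtain ⟨E, hE⟩ := exists_equiv h.ord h.cent h.le h.card h.notMem
  have : Fintype C := Fintype.ofFinite C
  have : Fintype (Subgroup.zpowers u) := Fintype.ofFinite _
  obtain ⟨μ, hμ⟩ := Cfsg.Agent.H591.M23.Blk.exists_linear_sum (G := G) h.ord
  have hf1 : IsCharacter C (θ ∘ ((MonoidHom.snd (Subgroup.zpowers u) T).comp E.symm.toMonoidHom)) :=
    isCharacter_comp _ hθ
  have hf2 : IsCharacter C ((fun x => ((μ x : ℂˣ) : ℂ)) ∘
      ((MonoidHom.fst (Subgroup.zpowers u) T).comp E.symm.toMonoidHom)) :=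
    isCharacter_comp _ (Characters.Linear.isCharacter_hom μ)
  have hres : IsCharacter C (χ ∘ C.subtype) := isCharacter_comp C.subtype hχ
  obtain ⟨m0, hm0⟩ := classInner_isNat hres hf1
  obtain ⟨m1, hm1⟩ := classInner_isNat hres (isCharacter_mul hf2 hf1)
  have hsum : ∀ F : (Subgroup.zpowers u) × T → ℂ, ∑ c : C, F (E.symm c) = ∑ x, ∑ t, F (x, t) := by
    intro F
    rw [← Fintype.sum_prod_type]
    exact Fintype.sum_equiv E.symm.toEquiv _ _ fun c => rfl
  obtain ⟨S, hS⟩ : ∃ S : G → ℂ, ∀ x, S x = ∑ t : T, χ (x * t) * conj (θ t) := ⟨_, fun x => rfl⟩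
  -- `S` is constant on the nontrivial elements of `⟨u⟩`
  have hSinv : ∀ x : Subgroup.zpowers u, x ≠ 1 → S x = S u := by
    rintro ⟨x, hx⟩ hx1
    obtain ⟨k, rfl⟩ := mem_powers_iff_mem_zpowers.2 hx
    have hk : ¬ p ∣ k := by
      rintro ⟨m, rfl⟩
      apply hx1
      apply Subtype.ext
      change u ^ (p * m) = 1
      rw [pow_mul, ← h.ord, pow_orderOf_eq_one, one_pow]
    obtain ⟨n, hn⟩ := h.pows k hk
    have hnN := mem_norm h.ord hk hn
    obtain ⟨σ, hσ⟩ := exists_aut (h.norm n hnN)
    change S (u ^ k) = S u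
    rw [hS, hS]
    symm
    refine Fintype.sum_bijective σ σ.bijective _ _ fun t => ?_
    have h4 : (u ^ k * ((σ t : T) : G)) = n * (u * t) * n⁻¹ := by
      rw [hσ, ← hn]
      group
    rw [h4, isCharacter_isClassFunction hχ, hinv]
  have hA : ∑ c : C, (χ ∘ C.subtype) c *
      conj ((θ ∘ ((MonoidHom.snd (Subgroup.zpowers u) T).comp E.symm.toMonoidHom)) c) =
      ∑ x : Subgroup.zpowers u, S x := by
    simp only [hS]
    rw [← hsum (fun q => χ ((q.1 : G) * q.2) * conj (θ q.2))]
    refine Finset.sum_congr rfl fun c _ => ?_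
    have h1 : (c : G) = ((E.symm c).1 : G) * (E.symm c).2 := by
      rw [← hE, Prod.mk.eta, MulEquiv.apply_symm_apply]
    change χ (c : G) * conj (θ (E.symm c).2) = _
    rw [← h1]
  have hB : ∑ c : C, (χ ∘ C.subtype) c *
      conj ((((fun x => ((μ x : ℂˣ) : ℂ)) ∘
      ((MonoidHom.fst (Subgroup.zpowers u) T).comp E.symm.toMonoidHom)) *
        (θ ∘ ((MonoidHom.snd (Subgroup.zpowers u) T).comp E.symm.toMonoidHom))) c) =
      ∑ x : Subgroup.zpowers u, conj ((μ x : ℂˣ) : ℂ) * S x := by
    simp only [hS, Finset.mul_sum]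
    rw [← hsum (fun q => conj ((μ q.1 : ℂˣ) : ℂ) * (χ ((q.1 : G) * q.2) * conj (θ q.2)))]
    refine Finset.sum_congr rfl fun c _ => ?_
    have h1 : (c : G) = ((E.symm c).1 : G) * (E.symm c).2 := by
      rw [← hE, Prod.mk.eta, MulEquiv.apply_symm_apply]
    change χ (c : G) * conj (((μ (E.symm c).1 : ℂˣ) : ℂ) * θ (E.symm c).2) = _
    rw [← h1, map_mul]
    ring
  classical
  have hcardZ : Fintype.card (Subgroup.zpowers u) = p := by
    rw [← Nat.card_eq_fintype_card, Nat.card_zpowers, h.ord]
  have hA2 : ∑ x : Subgroup.zpowers u, S x = S 1 + ((p : ℂ) - 1) * S u := by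
    rw [← Finset.add_sum_erase Finset.univ (fun x : Subgroup.zpowers u => S x) (Finset.mem_univ 1)]
    rw [Finset.sum_congr rfl (g := fun _ => S u) (fun x hx => hSinv x (Finset.ne_of_mem_erase hx)),
      Finset.sum_const, Finset.card_erase_of_mem (Finset.mem_univ _), Finset.card_univ, hcardZ, nsmul_eq_mul,
      Nat.cast_sub hp.out.one_lt.le, Nat.cast_one, OneMemClass.coe_one]
  have hB2 : ∑ x : Subgroup.zpowers u, conj ((μ x : ℂˣ) : ℂ) * S x = S 1 - S u := by
    rw [← Finset.add_sum_erase Finset.univ (fun x : Subgroup.zpowers u => conj ((μ x : ℂˣ) : ℂ) * S x)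
      (Finset.mem_univ 1)]
    rw [← Finset.add_sum_erase Finset.univ (fun x : Subgroup.zpowers u => conj ((μ x : ℂˣ) : ℂ))
      (Finset.mem_univ 1)] at hμ
    rw [Finset.sum_congr rfl (g := fun x : Subgroup.zpowers u => conj ((μ x : ℂˣ) : ℂ) * S u)
      (fun x hx => by rw [hSinv x (Finset.ne_of_mem_erase hx)]), ← Finset.sum_mul]
    simp only [map_one, Units.val_one, one_mul, OneMemClass.coe_one] at hμ ⊢
    linear_combination (S u) * hμ
  rw [Characters.Core.classInner_def, hA, hA2] at hm0
  rw [Characters.Core.classInner_def, hB, hB2] at hm1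
  have hcardC : (Nat.card C : ℂ) = p * Nat.card T := by
    rw [h.card]
    push_cast
    ring
  have hT0 : (Nat.card T : ℂ) ≠ 0 := by exact_mod_cast Nat.card_pos.ne'
  have hp0 : (p : ℂ) ≠ 0 := by exact_mod_cast hp.out.ne_zero
  refine ⟨(m0 : ℤ) - m1, ?_⟩
  rw [Characters.Core.classInner_def]
  change (Nat.card T : ℂ)⁻¹ * ∑ t : T, χ (u * t) * conj (θ t) = _
  rw [← hS]
  push_cast
  rw [← hm0, ← hm1, hcardC]
  field_simp
  ring


/-- the data of `H591.M23.Blk` for an invariant character of defect zero -/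
theorem toHyp {lam : IrrCharacter T} (h : Rat p u C T)
    (hinv : ∀ (σ : T ≃* T) (t : T), (lam : T → ℂ) (σ t) = (lam : T → ℂ) t)
    (hT : (Nat.card T).factorization p = 1) (hlam : p ∣ charDegree (lam : T → ℂ)) :
    Cfsg.Agent.H591.M23.Blk.Hyp p u C T (lam : T → ℂ) where
  ord := h.ord
  cent := h.cent
  le := h.le
  card := h.card
  notMem := h.notMem
  pows := h.pows
  norm := h.norm
  irr := lam.2
  deg := deg_fact hT hlam
  inv := by
    intro g hg t t' htt
    obtain ⟨σ, hσ⟩ := exists_aut (h.norm g hg)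
    have h1 : t' = σ t := Subtype.ext (by rw [hσ, htt])
    rw [h1, hinv]

/-- an invariant character of defect zero which occurs is the only one -/
theorem one_of_ne {M : Ideal AlgInt} (hM : IsPModular p M) [Fintype T] {lam : IrrCharacter T} (h : Rat p u C T)
    (hinv : ∀ (σ : T ≃* T) (t : T), (lam : T → ℂ) (σ t) = (lam : T → ℂ) t)
    (hT : (Nat.card T).factorization p = 1) (hlam : p ∣ charDegree (lam : T → ℂ)) (X : IrrCharacter G)
    (hne : classInner (fun t : T => (X : G → ℂ) (u * (t : G))) (lam : T → ℂ) ≠ 0) :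
    ∃ e : ℤ, (e = 1 ∨ e = -1) ∧ ∀ t : T, ¬ p ∣ orderOf t → (X : G → ℂ) (u * (t : G)) = e * (lam : T → ℂ) t := by
  obtain ⟨B, -, a, -, -, -, -, -, h1, h2, h3, h4, -⟩ :=
    Cfsg.Agent.H591.M23.Blk.exists_blk hM (toHyp h hinv hT hlam)
  have hX : X ∈ B := by
    by_contra hX
    apply hne
    rw [h3, h2 X hX, Int.cast_zero]
  exact ⟨a X, h1 X hX, h4 X hX⟩

end Inv

end Cfsg.Agent.H436.M23.Sec
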