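import Cfsg.Agent.H436.M23.Tab
import Cfsg.Agent.H436.M23.Sec
import Cfsg.Agent.H603.FD.Spor

/-!
# The `M₁₂` side of `Sec11`: `MTwelveSide` (helper436)
-/

set_option autoImplicit false
set_option linter.unusedSectionVars false

open scoped ComplexConjugate
open Cfsg

namespace Cfsg.Agent.H436.M23.Side

open Cfsg.Agent.Characters.Core
open Cfsg.Agent.H436.M23.Tab
open Cfsg.Agent.Blocks.Basic (charDegree_of_eq)

universe u

section

variable {L : Type u} [Group L] [Fintype L] {y t : L} {χ : Fin 5 → IrrCharacter L} {th th' : IrrCharacter L}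
  {k : Fin 3 → IrrCharacter L}

theorem D_inj {i j : Fin 5} (h : D i = D j) : i = j := by
  revert i j
  decide

theorem chi_inj (h : MTab y t χ th th' k) {i j : Fin 5} (hij : χ i = χ j) : i = j := by
  apply D_inj
  have h1 := h.one i
  rw [hij, h.one j] at h1
  exact_mod_cast h1.symm

theorem chi_ne_th (h : MTab y t χ th th' k) (i : Fin 5) : χ i ≠ th := by
  intro hi
  have h1 := h.one i
  rw [hi, h.th_one] at h1
  have h2 : (16 : ℤ) = D i := by exact_mod_cast h1
  clear h1 hi
  revert i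
  decide

theorem chi_ne_th' (h : MTab y t χ th th' k) (i : Fin 5) : χ i ≠ th' := by
  intro hi
  have h1 := h.one i
  rw [hi, h.th_one'] at h1
  have h2 : (16 : ℤ) = D i := by exact_mod_cast h1
  clear h1 hi
  revert i
  decide

/-- the composition with an automorphism -/
noncomputable def tw (σ : L ≃* L) (ψ : IrrCharacter L) : IrrCharacter L :=
  ⟨(ψ : L → ℂ) ∘ σ, isIrr_comp σ.toMonoidHom σ.surjective ψ.2⟩

theorem tw_apply (σ : L ≃* L) (ψ : IrrCharacter L) (l : L) : (tw σ ψ : L → ℂ) l = (ψ : L → ℂ) (σ l) := rfl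

theorem tw_one (σ : L ≃* L) (ψ : IrrCharacter L) : (tw σ ψ : L → ℂ) 1 = (ψ : L → ℂ) 1 := by
  rw [tw_apply, map_one]

theorem tw_inj (σ : L ≃* L) {ψ ψ' : IrrCharacter L} (h : tw σ ψ = tw σ ψ') : ψ = ψ' := by
  apply Subtype.ext
  funext l
  have h1 : (tw σ ψ : L → ℂ) (σ.symm l) = (tw σ ψ' : L → ℂ) (σ.symm l) := by rw [h]
  rw [tw_apply, tw_apply, MulEquiv.apply_symm_apply] at h1
  exact h1

theorem chi_tw (h : MTab y t χ th th' k) (σ : L ≃* L) (i : Fin 5) : tw σ (χ i) = χ i := by
  have h1 : (tw σ (χ i) : L → ℂ) 1 = D i := by rw [tw_one, h.one]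
  rcases h.rest (tw σ (χ i)) with ⟨j, hj⟩ | hj | hj | hj
  · rw [hj]
    rw [hj, h.one] at h1
    rw [D_inj (i := j) (j := i) (by exact_mod_cast h1)]
  · exfalso
    rw [hj, h.th_one] at h1
    have h2 : (16 : ℤ) = D i := by exact_mod_cast h1
    revert h2
    clear h1 hj
    revert i
    decide
  · exfalso
    rw [hj, h.th_one'] at h1
    have h2 : (16 : ℤ) = D i := by exact_mod_cast h1
    revert h2
    clear h1 hj
    revert i
    decide
  · exfalso
    have h2 : D i = (((D i).toNat : ℕ) : ℤ) := by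
      clear h1 hj
      revert i
      decide
    rw [h2, Int.cast_natCast] at h1
    rw [charDegree_of_eq h1] at hj
    clear h1 h2
    revert hj
    revert i
    decide

theorem th_tw (h : MTab y t χ th th' k) (σ : L ≃* L) {ψ : IrrCharacter L} (hψ : ψ = th ∨ ψ = th') :
    tw σ ψ = th ∨ tw σ ψ = th' := by
  have h1 : (tw σ ψ : L → ℂ) 1 = 16 := by
    rw [tw_one]
    rcases hψ with rfl | rfl
    · exact h.th_one
    · exact h.th_one'
  rcases h.rest (tw σ ψ) with ⟨j, hj⟩ | hj | hj | hj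
  · exfalso
    rw [hj, h.one] at h1
    have h2 : D j = (16 : ℤ) := by exact_mod_cast h1
    revert h2
    clear h1 hj
    revert j
    decide
  · exact Or.inl hj
  · exact Or.inr hj
  · exfalso
    have h2 : (tw σ ψ : L → ℂ) 1 = ((16 : ℕ) : ℂ) := by rw [h1]; norm_num
    rw [charDegree_of_eq h2] at hj
    norm_num at hj

theorem th_add_tw (h : MTab y t χ th th' k) (σ : L ≃* L) (l : L) :
    ((th : L → ℂ) + (th' : L → ℂ)) (σ l) = ((th : L → ℂ) + (th' : L → ℂ)) l := by
  rw [Pi.add_apply, Pi.add_apply, ← tw_apply, ← tw_apply]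
  rcases th_tw h σ (Or.inl rfl) with h1 | h1
  · rcases th_tw h σ (Or.inr rfl) with h2 | h2
    · exact absurd (tw_inj σ (h1.trans h2.symm)) h.th_ne
    · rw [h1, h2]
  · rcases th_tw h σ (Or.inr rfl) with h2 | h2
    · rw [h1, h2, add_comm]
    · exact absurd (tw_inj σ (h1.trans h2.symm)) h.th_ne

theorem k_tw (h : MTab y t χ th th' k) (hy : orderOf y = 5) (ht : orderOf t = 2) (hty : Commute t y) (σ : L ≃* L)
    (j : Fin 3) : tw σ (k j) = k j := by
  have hsy : orderOf (σ y) = 5 := by rw [MulEquiv.orderOf_eq, hy]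
  obtain ⟨g, hg⟩ := isConj_iff.1 (h.cy _ hsy)
  have hst : g⁻¹ * σ t * g = t := by
    refine Ct.invol_eq hy ht ?_ hty.symm ?_ h.c10
    · have h1 := MulEquiv.orderOf_eq (MulAut.conj g⁻¹) (σ t)
      have h2 : orderOf (σ t) = 2 := by rw [MulEquiv.orderOf_eq, ht]
      rw [MulAut.conj_apply, inv_inv, h2] at h1
      exact h1
    · have h1 : y = g⁻¹ * σ y * g := by rw [← hg]; group
      have h2 : σ y * σ t = σ t * σ y := by rw [← map_mul, ← map_mul, hty.eq]
      rw [h1]
      change g⁻¹ * σ y * g * (g⁻¹ * σ t * g) = g⁻¹ * σ t * g * (g⁻¹ * σ y * g)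
      calc g⁻¹ * σ y * g * (g⁻¹ * σ t * g) = g⁻¹ * (σ y * σ t) * g := by group
        _ = g⁻¹ * (σ t * σ y) * g := by rw [h2]
        _ = g⁻¹ * σ t * g * (g⁻¹ * σ y * g) := by group
  have e1 : (tw σ (k j) : L → ℂ) y = KV j := by
    rw [tw_apply, ← hg, isIrr_isClassFunction (k j).2, h.ky]
  have e2 : (tw σ (k j) : L → ℂ) (t * y) = KV j := by
    have h3 : σ (t * y) = g * (t * y) * g⁻¹ := by
      rw [map_mul, ← hg]
      have h4 : σ t = g * t * g⁻¹ := by
        calc σ t = g * (g⁻¹ * σ t * g) * g⁻¹ := by group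
          _ = g * t * g⁻¹ := by rw [hst]
      rw [h4]
      group
    rw [tw_apply, h3, isIrr_isClassFunction (k j).2, h.kty]
  have e3 : (tw σ (k j) : L → ℂ) 1 = KD j := by rw [tw_one, h.kd]
  have hne : (tw σ (k j) : L → ℂ) y + (tw σ (k j) : L → ℂ) (t * y) ≠ 0 := by
    rw [e1, e2]
    intro h0
    have h1 : KV j + KV j = 0 := by exact_mod_cast h0
    revert h1
    clear * -
    revert j
    decide
  rcases h.kin _ hne with ⟨i, hi⟩ | ⟨i, hi⟩
  · exfalso
    rw [hi, h.one] at e3
    have h1 : D i = KD j := by exact_mod_cast e3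
    revert h1
    clear * -
    revert i j
    decide
  · rw [hi]
    rw [hi, h.kd] at e3
    have h1 : KD i = KD j := by exact_mod_cast e3
    have h2 : i = j := by
      revert h1
      clear * -
      revert i j
      decide
    rw [h2]

theorem dvd_k (h : MTab y t χ th th' k) (j : Fin 3) : 11 ∣ charDegree (k j : L → ℂ) := by
  have h1 := h.kd j
  have h2 : KD j = (((KD j).toNat : ℕ) : ℤ) := by
    clear h1
    revert j
    decide
  rw [h2, Int.cast_natCast] at h1
  rw [charDegree_of_eq h1]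
  clear h1 h2
  revert j
  decide

theorem not_dvd_chi (h : MTab y t χ th th' k) (i : Fin 5) : ¬ 11 ∣ charDegree (χ i : L → ℂ) := by
  have h1 := h.one i
  have h2 : D i = (((D i).toNat : ℕ) : ℤ) := by
    clear h1
    revert i
    decide
  rw [h2, Int.cast_natCast] at h1
  rw [charDegree_of_eq h1]
  clear h1 h2
  revert i
  decide

/-- **Case B.** -/
theorem caseB (h : MTab y t χ th th' k) (hc : Nat.card L = 95040) {f : L → ℂ} {c : ℤ} (hB : ElevenBase L f c y t)
    (hS : SecB L f) : OutB L f c t := by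
  classical
  have h11 : Fact (Nat.Prime 11) := ⟨by norm_num⟩
  have hfin : Finite (IrrCharacter L) := finite_irr
  have hft := Fintype.ofFinite (IrrCharacter L)
  have o5 : ¬ 11 ∣ orderOf y := by rw [hB.oy]; norm_num
  have o10 : ¬ 11 ∣ orderOf (t * y) := by
    rw [hB.comm.orderOf_mul_eq_mul_orderOf_of_coprime (by rw [hB.ot, hB.oy]; norm_num), hB.ot, hB.oy]
    norm_num
  have o2 : ¬ 11 ∣ orderOf t := by rw [hB.ot]; norm_num
  have o1 : ¬ 11 ∣ orderOf (1 : L) := by rw [orderOf_one]; norm_num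
  have hc0 : (c : ℂ) ≠ 0 := by
    rcases hB.hc with h | h <;> rw [h] <;> norm_num
  -- a constituent
  obtain ⟨lam, hlam, hm, hval⟩ : ∃ lam : IrrCharacter L, 11 ∣ charDegree (lam : L → ℂ) ∧
      classInner f (lam : L → ℂ) ≠ 0 ∧ (lam : L → ℂ) y + (lam : L → ℂ) (t * y) ≠ 0 := by
    by_contra hno
    push Not at hno
    have e1 := hS.reg y o5
    have e2 := hS.reg (t * y) o10
    have e3 : f y + f (t * y) = 0 := by
      rw [e1, e2, ← finsum_mem_add_distrib (Set.toFinite _)]
      rw [← finsum_mem_zero {lam : IrrCharacter L | 11 ∣ charDegree (lam : L → ℂ)} (M := ℂ)]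
      refine finsum_mem_congr rfl fun lam hlam => ?_
      by_cases hm : classInner f (lam : L → ℂ) = 0
      · rw [hm]; ring
      · rw [← mul_add, hno lam hlam hm, mul_zero]
    rw [hB.vy, hB.vty] at e3
    apply hc0
    linear_combination (1 / 2 : ℂ) * e3
  rcases h.kin lam hval with ⟨i, hi⟩ | ⟨j, hj⟩
  · exact absurd (hi ▸ hlam) (not_dvd_chi h i)
  have hinv : ∀ (σ : L ≃* L) (l : L), (lam : L → ℂ) (σ l) = (lam : L → ℂ) l := by
    intro σ l
    rw [hj, ← tw_apply, k_tw h hB.oy hB.ot hB.comm]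
  obtain ⟨e, he, hf⟩ := hS.one lam hlam hinv hm
  have hee : (e : ℂ) * e = 1 := by rcases he with h | h <;> rw [h] <;> norm_num
  have hreg : reg11 L f = 11 := by
    unfold reg11
    obtain ⟨M, hM⟩ := Cfsg.Agent.Blocks.ExistsModular.exists_isPModular (show Nat.Prime 11 by norm_num)
    have hfac : (charDegree (lam : L → ℂ)).factorization 11 = (Nat.card L).factorization 11 := by
      have h1 := (h11.out.dvd_iff_one_le_factorization
        (Cfsg.Agent.Blocks.Basic.charDegree_pos lam.2).ne').1 hlam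
      have h2 := (Nat.factorization_le_iff_dvd (Cfsg.Agent.Blocks.Basic.charDegree_pos lam.2).ne'
        Nat.card_pos.ne').2 (Cfsg.Agent.Blocks.Knorr.charDegree_dvd lam.2) 11
      have h3 : (Nat.card L).factorization 11 = 1 := by
        rw [hc]
        decide +kernel
      omega
    have h0 : ∀ l : L, 11 ∣ orderOf l → (lam : L → ℂ) l = 0 := fun l hl =>
      Cfsg.Agent.H66.LD.Three.eq_zero_of_dvd hM lam hfac hl
    have h1 : ∑ l : L with ¬ 11 ∣ orderOf l, f l * conj (f l) = ∑ l : L, (lam : L → ℂ) l * conj ((lam : L → ℂ) l) := by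
      rw [Finset.sum_filter]
      refine Finset.sum_congr rfl fun l _ => ?_
      by_cases hl : 11 ∣ orderOf l
      · rw [if_neg (not_not.2 hl), h0 l hl, zero_mul]
      · rw [if_pos hl, hf l hl, map_mul, map_intCast]
        linear_combination ((lam : L → ℂ) l * conj ((lam : L → ℂ) l)) * hee
    have h2 := classInner_irr_self lam.2
    rw [classInner_def] at h2
    rw [h1, h2, mul_one]
  have hey : (e : ℂ) * KV j = c := by
    rw [← h.ky j, ← hj, ← hf y o5, hB.vy]
  have hey' : e * KV j = c := by exact_mod_cast hey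
  have hf1 : f 1 = ((e * KD j : ℤ) : ℂ) := by
    rw [hf 1 o1, hj, h.kd]
    push_cast
    rfl
  have hft' : f t = ((e * KS j : ℤ) : ℂ) := by
    rw [hf t o2, hj, h.kt]
    push_cast
    rfl
  refine ⟨hreg, ?_⟩
  fin_cases j
  · left
    have h1 : e * 1 = c := hey'
    have h2 : f 1 = ((e * 66 : ℤ) : ℂ) := hf1
    have h3 : f t = ((e * 6 : ℤ) : ℂ) := hft'
    rw [mul_one] at h1
    rw [h2, h3, h1]
    exact ⟨by rw [mul_comm], by rw [mul_comm]⟩
  · right; left
    have h1 : e * (-1) = c := hey'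
    have h2 : f 1 = ((e * 99 : ℤ) : ℂ) := hf1
    have h3 : f t = ((e * (-1) : ℤ) : ℂ) := hft'
    rw [h2, h3, ← h1]
    refine ⟨congrArg _ (by ring), rfl⟩
  · right; right
    have h1 : e * 1 = c := hey'
    have h2 : f 1 = ((e * 176 : ℤ) : ℂ) := hf1
    have h3 : f t = ((e * (-4) : ℤ) : ℂ) := hft'
    rw [mul_one] at h1
    rw [h2, h3, h1]
    exact ⟨by rw [mul_comm], by rw [mul_comm]⟩

/-- the sum over the elements of order divisible by 11 -/
theorem card_sing (h : MTab y t χ th th' k) :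
    (11 : ℂ) * ∑ l : L with 11 ∣ orderOf l, (1 : ℂ) = 2 * Nat.card L := by
  classical
  have h0 : ∀ l : L, 11 ∣ orderOf l → conj ((χ 0 : L → ℂ) l) = 1 := by
    intro l hl
    rw [h.sing l hl, show E 0 = 1 from rfl, Int.cast_one, map_one]
  have key : ∀ Θ : IrrCharacter L, (∀ i, χ i ≠ Θ) →
      (∀ g : L, ¬ 11 ∣ orderOf g → (Θ : L → ℂ) g = ∑ i, (E i : ℂ) * (χ i : L → ℂ) g) →
      ∑ l : L with 11 ∣ orderOf l, (5 - (Θ : L → ℂ) l) = Nat.card L := by
    intro Θ hne hrel
    have h1 : classInner ((∑ i, (E i : ℂ) • (χ i : L → ℂ)) - (Θ : L → ℂ)) (χ 0 : L → ℂ) = 1 := by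
      rw [classInner_sub_left, classInner_sum_left, Fin.sum_univ_five]
      simp only [classInner_smul_left]
      rw [classInner_irr_self (χ 0).2, classInner_irr_ne (χ 1).2 (χ 0).2
        (fun e => absurd (chi_inj h (Subtype.ext e)) (by decide)),
        classInner_irr_ne (χ 2).2 (χ 0).2 (fun e => absurd (chi_inj h (Subtype.ext e)) (by decide)),
        classInner_irr_ne (χ 3).2 (χ 0).2 (fun e => absurd (chi_inj h (Subtype.ext e)) (by decide)),
        classInner_irr_ne (χ 4).2 (χ 0).2 (fun e => absurd (chi_inj h (Subtype.ext e)) (by decide)),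
        classInner_irr_ne Θ.2 (χ 0).2 (fun e => hne 0 (Subtype.ext e.symm)), show E 0 = 1 from rfl]
      simp
    rw [classInner_def] at h1
    have hL : (Nat.card L : ℂ) ≠ 0 := card_ne_zero_complex
    have h2 : ∑ l : L, ((∑ i, (E i : ℂ) • (χ i : L → ℂ)) - (Θ : L → ℂ)) l * conj ((χ 0 : L → ℂ) l) = Nat.card L := by
      field_simp at h1
      exact h1
    rw [← h2, Finset.sum_filter]
    refine Finset.sum_congr rfl fun l _ => ?_
    have h3 : ((∑ i, (E i : ℂ) • (χ i : L → ℂ)) - (Θ : L → ℂ)) l =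
        (∑ i, (E i : ℂ) * (χ i : L → ℂ) l) - (Θ : L → ℂ) l := by
      rw [Pi.sub_apply, Finset.sum_apply]
      rfl
    rw [h3]
    by_cases hl : 11 ∣ orderOf l
    · rw [if_pos hl, h0 l hl, mul_one, Finset.sum_congr rfl fun i _ => by rw [h.sing l hl i], Fin.sum_univ_five]
      rw [show E 0 = 1 from rfl, show E 1 = 1 from rfl, show E 2 = -1 from rfl, show E 3 = -1 from rfl,
        show E 4 = 1 from rfl]
      norm_num
    · rw [if_neg hl, hrel l hl, sub_self, zero_mul]
  have h1 := key th (chi_ne_th h) h.rel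
  have h2 := key th' (chi_ne_th' h) h.rel'
  have h3 : ∑ l : L with 11 ∣ orderOf l, ((5 - (th : L → ℂ) l) + (5 - (th' : L → ℂ) l)) =
      ∑ l : L with 11 ∣ orderOf l, (11 : ℂ) := by
    refine Finset.sum_congr rfl fun l hl => ?_
    have h4 := h.singX l (Finset.mem_filter.1 hl).2
    linear_combination -h4
  rw [Finset.sum_add_distrib, h1, h2] at h3
  rw [Finset.mul_sum]
  simp only [mul_one]
  rw [← h3]
  ring

/-- the norm on the `11`-regular elements -/
theorem reg_eq (h : MTab y t χ th th' k) {f : L → ℂ} {n : Fin 5 → ℤ}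
    (hf : ∀ l : L, ¬ 11 ∣ orderOf l → f l = ∑ i, (n i : ℂ) * (χ i : L → ℂ) l) :
    reg11 L f = ((11 * ∑ i, n i * n i - 2 * ((∑ i, n i * E i) * (∑ i, n i * E i)) : ℤ) : ℂ) := by
  classical
  have hL : (Nat.card L : ℂ) ≠ 0 := card_ne_zero_complex
  obtain ⟨F, hF⟩ : ∃ F : L → ℂ, F = ∑ i, (n i : ℂ) • (χ i : L → ℂ) := ⟨_, rfl⟩
  have hFl : ∀ l, F l = ∑ i, (n i : ℂ) * (χ i : L → ℂ) l := by
    intro l
    rw [hF, Finset.sum_apply]
    rfl
  have h1 : classInner F F = ((∑ i, n i * n i : ℤ) : ℂ) := by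
    have h2 : ∀ i, classInner (χ i : L → ℂ) F = n i := by
      intro i
      rw [hF, classInner_sum_right, Finset.sum_eq_single i]
      · rw [classInner_smul_right, classInner_irr_self (χ i).2, map_intCast, mul_one]
      · intro j _ hj
        rw [classInner_smul_right, classInner_irr_ne (χ i).2 (χ j).2
          (fun e => hj (chi_inj h (Subtype.ext e)).symm), mul_zero]
      · intro hi
        exact absurd (Finset.mem_univ _) hi
    have h3 : classInner F F = classInner (∑ i, (n i : ℂ) • (χ i : L → ℂ)) F := by rw [← hF]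
    rw [h3, classInner_sum_left]
    push_cast
    refine Finset.sum_congr rfl fun i _ => ?_
    rw [classInner_smul_left, h2]
  rw [classInner_def] at h1
  have h2 : ∑ l : L, F l * conj (F l) = Nat.card L * ((∑ i, n i * n i : ℤ) : ℂ) := by
    rw [← h1]
    field_simp
  have h3 : ∑ l : L with 11 ∣ orderOf l, F l * conj (F l) =
      (((∑ i, n i * E i) * (∑ i, n i * E i) : ℤ) : ℂ) * ∑ l : L with 11 ∣ orderOf l, (1 : ℂ) := by
    rw [Finset.mul_sum]
    refine Finset.sum_congr rfl fun l hl => ?_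
    have h4 : F l = ((∑ i, n i * E i : ℤ) : ℂ) := by
      rw [hFl]
      push_cast
      exact Finset.sum_congr rfl fun i _ => by rw [h.sing l (Finset.mem_filter.1 hl).2]
    rw [h4, map_intCast]
    push_cast
    ring
  have h4 : ∑ l : L with ¬ 11 ∣ orderOf l, f l * conj (f l) = ∑ l : L with ¬ 11 ∣ orderOf l, F l * conj (F l) := by
    refine Finset.sum_congr rfl fun l hl => ?_
    rw [hf l (Finset.mem_filter.1 hl).2, hFl]
  have h5 := Finset.sum_filter_add_sum_filter_not Finset.univ (fun l : L => 11 ∣ orderOf l)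
    (fun l => F l * conj (F l))
  have h6 := card_sing h
  unfold reg11
  rw [h4]
  rw [h2, h3] at h5
  have h7 : ∑ l : L with ¬ 11 ∣ orderOf l, F l * conj (F l) = Nat.card L * ((∑ i, n i * n i : ℤ) : ℂ) -
      (((∑ i, n i * E i) * (∑ i, n i * E i) : ℤ) : ℂ) * ∑ l : L with 11 ∣ orderOf l, (1 : ℂ) := by
    linear_combination h5
  rw [h7]
  rw [Int.cast_sub, Int.cast_mul 11, Int.cast_mul 2]
  field_simp
  push_cast
  linear_combination (-((∑ i, (n i : ℂ) * (E i : ℂ)) * (∑ i, (n i : ℂ) * (E i : ℂ)))) * h6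

/-- **Case A.** -/
theorem caseA (h : MTab y t χ th th' k) {f : L → ℂ} {c : ℤ} (hB : ElevenBase L f c y t)
    (hS : SecA L f) : OutA L f c t := by
  classical
  have hfin : Finite (IrrCharacter L) := finite_irr
  have hft := Fintype.ofFinite (IrrCharacter L)
  have o5 : ¬ 11 ∣ orderOf y := by rw [hB.oy]; norm_num
  have o10 : ¬ 11 ∣ orderOf (t * y) := by
    rw [hB.comm.orderOf_mul_eq_mul_orderOf_of_coprime (by rw [hB.ot, hB.oy]; norm_num), hB.ot, hB.oy]
    norm_num
  have o2 : ¬ 11 ∣ orderOf t := by rw [hB.ot]; norm_num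
  have o1 : ¬ 11 ∣ orderOf (1 : L) := by rw [orderOf_one]; norm_num
  -- the coefficients
  have hm : ∀ i, ∃ a : ℤ, classInner f (χ i : L → ℂ) = a := fun i =>
    hB.int _ (isIrr_isCharacter (χ i).2) fun σ l => by rw [← tw_apply, chi_tw h]
  choose m hm using hm
  obtain ⟨s, hs⟩ := hB.int _ (isCharacter_add (isIrr_isCharacter th.2) (isIrr_isCharacter th'.2)) (th_add_tw h)
  rw [classInner_add_right] at hs
  obtain ⟨n, hn⟩ : ∃ n : Fin 5 → ℤ, ∀ i, n i = m i + s * E i := ⟨_, fun i => rfl⟩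
  -- `f` on the `11`-regular elements
  have hf : ∀ l : L, ¬ 11 ∣ orderOf l → f l = ∑ i, (n i : ℂ) * (χ i : L → ℂ) l := by
    intro l hl
    have h1 := congrFun (classFunction_eq_sum hB.cls) l
    rw [h1, Finset.sum_apply]
    let A : Finset (IrrCharacter L) := Finset.univ.image χ
    have hthA : th ∉ A := by
      intro h2
      obtain ⟨i, -, hi⟩ := Finset.mem_image.1 h2
      exact chi_ne_th h i hi
    have hthA' : th' ∉ insert th A := by
      intro h2
      rcases Finset.mem_insert.1 h2 with h3 | h3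
      · exact h.th_ne h3.symm
      · obtain ⟨i, -, hi⟩ := Finset.mem_image.1 h3
        exact chi_ne_th' h i hi
    rw [← Finset.sum_subset (Finset.subset_univ (insert th' (insert th A))), Finset.sum_insert hthA',
      Finset.sum_insert hthA, Finset.sum_image fun i _ j _ hij => chi_inj h hij]
    · simp only [Pi.smul_apply, smul_eq_mul]
      rw [h.rel l hl, h.rel' l hl, ← add_assoc, ← add_mul, add_comm (classInner f (th' : L → ℂ)), hs,
        Finset.mul_sum, ← Finset.sum_add_distrib]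
      refine Finset.sum_congr rfl fun i _ => ?_
      rw [hm, hn]
      push_cast
      ring
    · intro ψ _ hψ
      have h2 : 11 ∣ charDegree (ψ : L → ℂ) := by
        rcases h.rest ψ with ⟨i, hi⟩ | hi | hi | hi
        · exfalso
          apply hψ
          rw [hi]
          exact Finset.mem_insert_of_mem (Finset.mem_insert_of_mem (Finset.mem_image_of_mem _ (Finset.mem_univ i)))
        · exfalso
          apply hψ
          rw [hi]
          exact Finset.mem_insert_of_mem (Finset.mem_insert_self _ _)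
        · exfalso
          apply hψ
          rw [hi]
          exact Finset.mem_insert_self _ _
        · exact hi
      rw [Pi.smul_apply, smul_eq_mul, hS ψ h2, zero_mul]
  have hreg := reg_eq h hf
  have ey : ((∑ i, n i * V i : ℤ) : ℂ) = c := by
    rw [← hB.vy, hf y o5]
    push_cast
    exact Finset.sum_congr rfl fun i _ => by rw [h.vy]
  have ety : ((∑ i, n i * W i : ℤ) : ℂ) = c := by
    rw [← hB.vty, hf _ o10]
    push_cast
    exact Finset.sum_congr rfl fun i _ => by rw [h.vty]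
  have e1 : f 1 = ((∑ i, n i * D i : ℤ) : ℂ) := by
    rw [hf 1 o1]
    push_cast
    exact Finset.sum_congr rfl fun i _ => by rw [h.one]
  have et : f t = ((∑ i, n i * S i : ℤ) : ℂ) := by
    rw [hf t o2]
    push_cast
    exact Finset.sum_congr rfl fun i _ => by rw [h.vt]
  have ey' : ∑ i, n i * V i = c := by exact_mod_cast ey
  have ety' : ∑ i, n i * W i = c := by exact_mod_cast ety
  rw [Fin.sum_univ_five] at ey' ety' e1 et
  rw [Fin.sum_univ_five, Fin.sum_univ_five] at hreg
  have E0 : E 0 = 1 := rfl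
  have E1 : E 1 = 1 := rfl
  have E2 : E 2 = -1 := rfl
  have E3 : E 3 = -1 := rfl
  have E4 : E 4 = 1 := rfl
  have V0 : V 0 = 1 := rfl
  have V1 : V 1 = 0 := rfl
  have V2 : V 2 = -1 := rfl
  have V3 : V 3 = 0 := rfl
  have V4 : V 4 = -1 := rfl
  have W0 : W 0 = 1 := rfl
  have W1 : W 1 = 0 := rfl
  have W2 : W 2 = 1 := rfl
  have W3 : W 3 = 0 := rfl
  have W4 : W 4 = -1 := rfl
  have D0 : D 0 = 1 := rfl
  have D1 : D 1 = 45 := rfl
  have D2 : D 2 = 54 := rfl
  have D3 : D 3 = 120 := rfl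
  have D4 : D 4 = 144 := rfl
  have S0 : S 0 = 1 := rfl
  have S1 : S 1 = 5 := rfl
  have S2 : S 2 = 6 := rfl
  have S3 : S 3 = 0 := rfl
  have S4 : S 4 = 4 := rfl
  rw [V0, V1, V2, V3, V4] at ey'
  rw [W0, W1, W2, W3, W4] at ety'
  rw [D0, D1, D2, D3, D4] at e1
  rw [S0, S1, S2, S3, S4] at et
  rw [E0, E1, E2, E3, E4] at hreg
  refine ⟨n 0 + n 2, n 2 + n 4, n 4 + n 3, n 3 + n 1, n 1, by linarith, by linarith, ?_, ?_, ?_⟩
  · rw [e1]
    exact congrArg _ (by ring)
  · rw [et]
    exact congrArg _ (by ring)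
  · rw [hreg]
    exact congrArg _ (by unfold N11; ring)

end

/-- **The `M₁₂` side.** -/
theorem side : MTwelveSide.{u} := by
  intro L _ _ hL f c y t hB
  have hc : Nat.card L = 95040 := (Cfsg.Agent.H603.FD.Spor.isM12 hL).2
  have hs : IsSimpleGroup L := (Cfsg.Agent.H603.FD.Spor.isM12 hL).1
  obtain ⟨χ, th, th', k, h⟩ := exists_tab hc hB.oy hB.ot hB.comm
  exact ⟨fun hA => caseA h hB hA, fun hb => caseB h hc hB hb⟩

end Cfsg.Agent.H436.M23.Side
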