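import Cfsg.Agent.H436.M23.Out
import Cfsg.Agent.H436.M23.Side

/-!
# (M,23) of S4929: `Out11` and `SecFacts` without the hypothesis `MTwelveSide` (helper436)
-/

set_option autoImplicit false

namespace Cfsg.Agent.H436.M23.Final

open Cfsg
open Cfsg.Agent.H241.Mon
open Cfsg.Agent.H691.M23 (Five RV SecFacts)
open Cfsg.Agent.H994.M23.Fin (Out11 Out13)

/-- **`Out11`.** -/
theorem out11 [Fintype Gam] {u : Gam} {C T : Subgroup Gam} {θ : T → ℂ} {t y : T}
    (F : Five u C T θ t y) (X : IrrCharacter Gam) {d b w c : ℤ} (hd : (X : Gam → ℂ) 1 = d)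
    (hb : (X : Gam → ℂ) t = b) (hc : c = 1 ∨ c = -1) (hw : centralChar (X : Gam → ℂ) (t : Gam) = w)
    (hv : ∀ s : T, ¬ 5 ∣ orderOf s → (X : Gam → ℂ) (u * s) = c * θ s) : Out11 (X : Gam → ℂ) c d b w :=
  Out.out11 Side.side F X hd hb hc hw hv

/-- **`SecFacts`**, from the `13`-section. -/
theorem secFacts [Fintype Gam] {u : Gam} {C T : Subgroup Gam} [Fintype T] {θ : T → ℂ}
    {t y : T} (F : Five u C T θ t y)
    (H13 : ∀ (X : IrrCharacter Gam) {d b : ℤ}, RV X → (X : Gam → ℂ) 1 = d → (X : Gam → ℂ) t = b →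
      Out13 (X : Gam → ℂ) d b) : SecFacts u T θ t :=
  Out.secFacts Side.side F H13

end Cfsg.Agent.H436.M23.Final
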