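import Cfsg.Agent.H66.M23.Loc
import Cfsg.Agent.H715.Fpr.MathData

/-!
# The Monster: all elements of order 11 are conjugate (helper436)

`P` a Sylow `11`-subgroup containing `x`, `C(x) = ⟨x⟩ × M₁₂`: the class of `x` has `|G : C(x)| = 10 mod 11` elements
and so has its intersection with `C(P) = P`; this number is divisible by `10`, so it is `10` or `120`; it is not `10`
because `N(P)` is irreducible on `P` (`H800.ME.Final.abIrr_model`).
-/

set_option autoImplicit false

namespace Cfsg.Agent.H436.M23.Pure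

open Cfsg Subgroup
open Cfsg.Agent.H241.Mon Cfsg.Agent.H66.M23.Loc

universe u

section gen

variable {G : Type u} [Group G] [Finite G]

/-- a set of elements of order `p`, closed under the powers -/
theorem dvd_card {p : ℕ} (hp : p.Prime) (O : Finset G) (h1 : ∀ g ∈ O, orderOf g = p)
    (h2 : ∀ g ∈ O, ∀ n : ℕ, n % p ≠ 0 → g ^ n ∈ O) : p - 1 ∣ O.card := by
  classical
  have key : ∀ K ∈ O.image (fun g => zpowers g), (O.filter fun g => zpowers g = K).card = p - 1 := by
    intro K hK
    obtain ⟨g0, hg0, rfl⟩ := Finset.mem_image.1 hK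
    have : Fintype ↥(zpowers g0) := Fintype.ofFinite _
    have hc : Nat.card ↥(zpowers g0) = p := by rw [Nat.card_zpowers, h1 g0 hg0]
    have h3 : (O.filter fun g => zpowers g = zpowers g0) =
        ((Finset.univ : Finset ↥(zpowers g0)).map ⟨Subtype.val, Subtype.val_injective⟩).erase 1 := by
      ext h
      rw [Finset.mem_filter, Finset.mem_erase, Finset.mem_map]
      constructor
      · rintro ⟨hO, hz⟩
        refine ⟨?_, ⟨⟨h, hz ▸ mem_zpowers h⟩, Finset.mem_univ _, rfl⟩⟩
        rintro rfl
        have h4 := h1 1 hO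
        rw [orderOf_one] at h4
        exact hp.one_lt.ne h4
      · rintro ⟨hne, ⟨y, hy⟩, -, rfl⟩
        obtain ⟨n, hn⟩ := mem_powers_iff_mem_zpowers.2 hy
        have hn : g0 ^ n = y := hn
        have hnp : n % p ≠ 0 := by
          intro h0
          apply hne
          change y = 1
          rw [← hn, ← Nat.mod_add_div n p, h0, zero_add, pow_mul, ← h1 g0 hg0, pow_orderOf_eq_one, one_pow]
        have hyO : y ∈ O := hn ▸ h2 g0 hg0 n hnp
        refine ⟨hyO, ?_⟩
        change zpowers y = zpowers g0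
        refine eq_of_le_of_card_ge (by rwa [zpowers_le]) ?_
        rw [Nat.card_zpowers, Nat.card_zpowers, h1 g0 hg0, h1 y hyO]
    rw [h3, Finset.card_erase_of_mem, Finset.card_map, Finset.card_univ, ← Nat.card_eq_fintype_card, hc]
    rw [Finset.mem_map]
    exact ⟨1, Finset.mem_univ _, rfl⟩
  rw [Finset.card_eq_sum_card_image (fun g => zpowers g) O, Finset.sum_congr rfl key, Finset.sum_const, smul_eq_mul]
  exact Dvd.intro_left _ rfl

/-- a `p`-subgroup acting on a conjugacy class -/
theorem card_class_modEq {p : ℕ} [hp : Fact p.Prime] (P : Subgroup G) (hP : IsPGroup p P) (x : G) :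
    Nat.card {g : G // IsConj x g} ≡ Nat.card {g : G // IsConj x g ∧ g ∈ centralizer (P : Set G)} [MOD p] := by
  let act : MulAction ↥P {g : G // IsConj x g} :=
    { smul := fun a g => ⟨(a : G) * g * (a : G)⁻¹, g.2.trans (isConj_iff.2 ⟨(a : G), rfl⟩)⟩
      one_smul := fun g => Subtype.ext (show ((1 : ↥P) : G) * (g : G) * ((1 : ↥P) : G)⁻¹ = g by simp)
      mul_smul := fun a b g => Subtype.ext (show ((a * b : ↥P) : G) * (g : G) * ((a * b : ↥P) : G)⁻¹ =
        (a : G) * ((b : G) * g * (b : G)⁻¹) * (a : G)⁻¹ by rw [Subgroup.coe_mul]; group) }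
  have h1 := hP.card_modEq_card_fixedPoints {g : G // IsConj x g}
  refine h1.trans ?_
  have h2 : Nat.card (MulAction.fixedPoints ↥P {g : G // IsConj x g}) =
      Nat.card {g : G // IsConj x g ∧ g ∈ centralizer (P : Set G)} := by
    refine Nat.card_congr
      { toFun := fun g => ⟨g.1.1, g.1.2, ?_⟩
        invFun := fun g => ⟨⟨g.1, g.2.1⟩, ?_⟩
        left_inv := fun g => rfl
        right_inv := fun g => rfl }
    · rw [mem_centralizer_iff]
      intro a ha
      have h3 := congrArg Subtype.val (g.2 ⟨a, ha⟩)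
      have h4 : a * (g.1.1 : G) * a⁻¹ = g.1.1 := h3
      exact mul_inv_eq_iff_eq_mul.1 h4
    · intro a
      apply Subtype.ext
      change (a : G) * g.1 * (a : G)⁻¹ = g.1
      rw [(mem_centralizer_iff.1 g.2.2) a a.2, mul_inv_cancel_right]
  rw [h2]

end gen

theorem card_cent {x : Gam} {L : Subgroup Gam} (h : DP Spor.M12 11 x L) :
    Nat.card (centralizer ({x} : Set Gam)) = 1045440 := by
  rw [h.card, Nat.card_congr h.iso.some.toEquiv, Cfsg.Agent.H715.Fpr.MathData.card12]
  decide

/-- the centralizer in `L` of an element of order 11 -/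
theorem cent_L {x : Gam} {L : Subgroup Gam} (h : DP Spor.M12 11 x L) {l : Gam} (hl : l ∈ L) (hlo : orderOf l = 11)
    {c : Gam} (hc : c ∈ L) (hcl : c * l = l * c) : c ∈ zpowers l := by
  obtain ⟨e⟩ := h.iso
  have h1 : orderOf (e ⟨l, hl⟩) = 11 := by
    rw [MulEquiv.orderOf_eq, Subgroup.orderOf_mk, hlo]
  have h2 := (Cfsg.Agent.H715.Fpr.MathData.cn12_11 (R := zpowers (e ⟨l, hl⟩)) (by rw [Nat.card_zpowers, h1])).1
  have h3 : zpowers (e ⟨l, hl⟩) ≤ centralizer (zpowers (e ⟨l, hl⟩) : Set Spor.M12) := by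
    rw [zpowers_le, mem_centralizer_iff]
    intro z hz
    obtain ⟨i, rfl⟩ := mem_zpowers_iff.1 hz
    exact ((Commute.refl (e ⟨l, hl⟩)).zpow_left i).eq
  have : Finite Spor.M12 := Finite.of_equiv _ e.toEquiv
  have h4 : zpowers (e ⟨l, hl⟩) = centralizer (zpowers (e ⟨l, hl⟩) : Set Spor.M12) := by
    refine eq_of_le_of_card_ge h3 ?_
    rw [h2, Nat.card_zpowers, h1]
  have h5 : e ⟨c, hc⟩ ∈ zpowers (e ⟨l, hl⟩) := by
    rw [h4, mem_centralizer_iff]
    intro z hz
    obtain ⟨i, rfl⟩ := mem_zpowers_iff.1 hz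
    have h6 : Commute (⟨c, hc⟩ : L) ⟨l, hl⟩ := Subtype.ext hcl
    exact (((h6.map e.toMonoidHom).zpow_right i).eq).symm
  obtain ⟨i, hi⟩ := mem_zpowers_iff.1 h5
  refine mem_zpowers_iff.2 ⟨i, ?_⟩
  rw [← map_zpow] at hi
  exact congrArg Subtype.val (e.injective hi)

/-- **All elements of order 11 are conjugate.** -/
theorem isConj_all {x : Gam} {L : Subgroup Gam} (h : DP Spor.M12 11 x L)
    (hpow : ∀ n : ℕ, n % 11 ≠ 0 → ∃ c : Gam, c * x * c⁻¹ = x ^ n) {g : Gam} (hg : orderOf g = 11) : IsConj x g := by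
  classical
  have hp : Fact (Nat.Prime 11) := ⟨by norm_num⟩
  have hxp : IsPGroup 11 (zpowers x) := IsPGroup.of_card (n := 1) (by rw [Nat.card_zpowers, h.ord, pow_one])
  obtain ⟨P, hP⟩ := hxp.exists_le_sylow
  have hxP : x ∈ (P : Subgroup Gam) := hP (mem_zpowers x)
  have hcard : Nat.card (P : Subgroup Gam) = 11 ^ 2 := by
    rw [P.card_eq_multiplicity]
    congr 1
    apply le_antisymm
    · by_contra h1
      have h2 : 11 ^ 3 ∣ Nat.card Gam :=
        (hp.out.pow_dvd_iff_le_factorization Nat.card_pos.ne').2 (by omega)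
      rw [card_G] at h2
      norm_num at h2
    · refine (hp.out.pow_dvd_iff_le_factorization Nat.card_pos.ne').1 ?_
      rw [card_G]
      norm_num
  have hcomm := IsPGroup.isMulCommutative_of_card_eq_prime_sq hcard
  have hab : ∀ a ∈ (P : Subgroup Gam), ∀ b ∈ (P : Subgroup Gam), a * b = b * a := fun a ha b hb =>
    congrArg Subtype.val (hcomm.is_comm.comm (⟨a, ha⟩ : (P : Subgroup Gam)) ⟨b, hb⟩)
  have hPC : (P : Subgroup Gam) ≤ centralizer ({x} : Set Gam) := fun a ha =>
    mem_centralizer_singleton_iff.2 (hab a ha x hxP)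
  have hxL : ∀ l ∈ L, Commute x l := fun l hl => (mem_centralizer_singleton_iff.1 (h.le hl)).symm
  have hx11 : x ^ 11 = 1 := by rw [← h.ord, pow_orderOf_eq_one]
  -- an element of `P ∩ L` of order 11
  obtain ⟨l, hlL, hlP, hl1⟩ : ∃ l ∈ L, l ∈ (P : Subgroup Gam) ∧ l ≠ 1 := by
    by_contra hno
    push Not at hno
    have h1 : (P : Subgroup Gam) ≤ zpowers x := by
      intro a ha
      obtain ⟨i, t, ht, hat⟩ := h.split a (hPC ha)
      have h2 : t ∈ (P : Subgroup Gam) := by
        have h3 : t = (x ^ i)⁻¹ * a := by rw [hat]; group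
        rw [h3]
        exact mul_mem (inv_mem (pow_mem hxP i)) ha
      have h3 := hno t ht h2
      rw [hat, h3, mul_one]
      exact npow_mem_zpowers x i
    have h2 := Subgroup.card_le_of_le h1
    rw [hcard, Nat.card_zpowers, h.ord] at h2
    norm_num at h2
  have hpow11 : ∀ a ∈ (P : Subgroup Gam), a ^ 11 = 1 := by
    intro a ha
    obtain ⟨i, t, ht, hat⟩ := h.split a (hPC ha)
    have htP : t ∈ (P : Subgroup Gam) := by
      have h3 : t = (x ^ i)⁻¹ * a := by rw [hat]; group
      rw [h3]
      exact mul_mem (inv_mem (pow_mem hxP i)) ha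
    have h3 : t ^ 11 = 1 := by
      obtain ⟨k, hk⟩ := P.isPGroup' ⟨t, htP⟩
      have hk : t ^ 11 ^ k = 1 := congrArg Subtype.val hk
      have h4 : orderOf t ∣ 95040 := by
        have h5 : orderOf t ∣ Nat.card L := by
          have h6 := orderOf_dvd_natCard (⟨t, ht⟩ : L)
          rwa [Subgroup.orderOf_mk] at h6
        rwa [Nat.card_congr h.iso.some.toEquiv, Cfsg.Agent.H715.Fpr.MathData.card12] at h5
      obtain ⟨j, hj, hjt⟩ := (Nat.dvd_prime_pow hp.out).1 (orderOf_dvd_of_pow_eq_one hk)
      have h7 : j < 2 := by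
        by_contra h8
        have h9 : 11 ^ 2 ∣ 95040 := (pow_dvd_pow 11 (by omega : 2 ≤ j)).trans (hjt ▸ h4)
        norm_num at h9
      rw [← orderOf_dvd_iff_pow_eq_one, hjt]
      exact (pow_dvd_pow 11 (by omega : j ≤ 1)).trans (by norm_num)
    rw [hat, ((hxL t ht).pow_left i).mul_pow, h3, mul_one, ← pow_mul, mul_comm, pow_mul, hx11, one_pow]
  have hlo : orderOf l = 11 := orderOf_eq_prime (hpow11 l hlP) hl1
  -- `C(P) = P`
  have hCP : centralizer ((P : Subgroup Gam) : Set Gam) = P := by
    apply le_antisymm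
    · intro c hc
      rw [mem_centralizer_iff] at hc
      obtain ⟨i, t, ht, hct⟩ := h.split c (mem_centralizer_singleton_iff.2 (hc x hxP).symm)
      have h1 : t * l = l * t := by
        have h2 := hc l hlP
        rw [hct] at h2
        have h3 : Commute (x ^ i) l := (hxL l hlL).pow_left i
        have h4 : x ^ i * (l * t) = x ^ i * (t * l) := by
          calc x ^ i * (l * t) = (x ^ i * l) * t := by group
            _ = (l * x ^ i) * t := by rw [h3.eq]
            _ = l * (x ^ i * t) := by group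
            _ = x ^ i * t * l := h2
            _ = _ := by group
        exact (mul_left_cancel h4).symm
      obtain ⟨j, hj⟩ := mem_zpowers_iff.1 (cent_L h hlL hlo ht h1)
      rw [hct, ← hj]
      exact mul_mem (pow_mem hxP i) (zpow_mem hlP j)
    · intro c hc
      rw [mem_centralizer_iff]
      intro a ha
      exact hab a ha c hc
  -- the class of `x` in `P`
  have hfG : Fintype Gam := Fintype.ofFinite Gam
  obtain ⟨O, hO⟩ : ∃ O : Finset Gam, ∀ g, g ∈ O ↔ IsConj x g ∧ g ∈ (P : Subgroup Gam) :=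
    ⟨Finset.univ.filter fun g => IsConj x g ∧ g ∈ (P : Subgroup Gam), fun g => by simp⟩
  have hordO : ∀ g ∈ O, orderOf g = 11 := by
    intro g hg
    obtain ⟨c, hc⟩ := isConj_iff.1 ((hO g).1 hg).1
    rw [← hc, ← h.ord]
    have e : c * x * c⁻¹ = MulAut.conj c x := rfl
    rw [e, MulEquiv.orderOf_eq]
  have hO10 : 10 ∣ O.card := by
    refine dvd_card hp.out O hordO fun g hg n hn => ?_
    obtain ⟨hg1, hg2⟩ := (hO g).1 hg
    refine (hO _).2 ⟨?_, pow_mem hg2 n⟩
    obtain ⟨c, hc⟩ := isConj_iff.1 hg1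
    obtain ⟨d, hd⟩ := hpow n hn
    refine isConj_iff.2 ⟨c * d, ?_⟩
    calc c * d * x * (c * d)⁻¹ = c * (d * x * d⁻¹) * c⁻¹ := by group
      _ = c * x ^ n * c⁻¹ := by rw [hd]
      _ = (c * x * c⁻¹) ^ n := by rw [conj_pow]
      _ = g ^ n := by rw [hc]
  have hO11 : O.card % 11 = 10 := by
    have h1 := card_class_modEq (P : Subgroup Gam) P.isPGroup' x
    rw [hCP] at h1
    have h2 : Nat.card {g : Gam // IsConj x g ∧ g ∈ (P : Subgroup Gam)} = O.card := by
      rw [Nat.card_eq_fintype_card, Fintype.card_subtype]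
      congr 1
      ext g
      rw [hO]
      simp
    have h3 : Nat.card {g : Gam // IsConj x g} * 1045440 = Nat.card Gam := by
      rw [← card_cent h, ← Cfsg.Agent.Characters.CentralCharacter.index_centralizer_eq_card]
      exact Subgroup.index_mul_card _
    rw [card_G] at h3
    have h4 : Nat.card {g : Gam // IsConj x g} =
        808017424794512875886459904961710757005754368000000000 / 1045440 := by omega
    rw [h2, h4] at h1
    exact h1.symm.trans (by decide : _ ≡ 10 [MOD 11])
  have hOle : O ⊆ (Finset.univ.filter fun g => g ∈ (P : Subgroup Gam)).erase 1 := by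
    intro g hg
    rw [Finset.mem_erase, Finset.mem_filter]
    refine ⟨?_, Finset.mem_univ _, ((hO g).1 hg).2⟩
    rintro rfl
    have := hordO 1 hg
    rw [orderOf_one] at this
    norm_num at this
  have hPc : ((Finset.univ.filter fun g => g ∈ (P : Subgroup Gam)).erase 1).card = 120 := by
    rw [Finset.card_erase_of_mem (by simp), ← Fintype.card_subtype]
    have h1 : Fintype.card {g : Gam // g ∈ (P : Subgroup Gam)} = 121 := by
      rw [← Nat.card_eq_fintype_card]
      exact hcard
    rw [h1]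
  have hO120 : O.card = 120 := by
    have h1 := Finset.card_le_card hOle
    rw [hPc] at h1
    have h2 : O.card ≠ 10 := by
      intro h10
      -- `O = ⟨x⟩ \ {1}`
      have hsub : ((Finset.univ.filter fun g => g ∈ zpowers x).erase 1) ⊆ O := by
        intro g hg
        rw [Finset.mem_erase, Finset.mem_filter] at hg
        obtain ⟨n, hn⟩ := mem_powers_iff_mem_zpowers.2 hg.2.2
        have hn : x ^ n = g := hn
        have hnp : n % 11 ≠ 0 := by
          intro h0
          apply hg.1
          rw [← hn, ← Nat.mod_add_div n 11, h0, zero_add, pow_mul, hx11, one_pow]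
        obtain ⟨d, hd⟩ := hpow n hnp
        refine (hO g).2 ⟨isConj_iff.2 ⟨d, by rw [hd, hn]⟩, ?_⟩
        rw [← hn]
        exact pow_mem hxP n
      have hzc : ((Finset.univ.filter fun g => g ∈ zpowers x).erase 1).card = 10 := by
        rw [Finset.card_erase_of_mem (by simp), ← Fintype.card_subtype]
        have h1 : Fintype.card {g : Gam // g ∈ zpowers x} = 11 := by
          rw [← Nat.card_eq_fintype_card]
          exact (Nat.card_zpowers x).trans h.ord
        rw [h1]
      have heq := Finset.eq_of_subset_of_card_le hsub (by rw [h10, hzc])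
      have hinv : ∀ n ∈ normalizer ((P : Subgroup Gam) : Set Gam), ∀ b ∈ zpowers x, n * b * n⁻¹ ∈ zpowers x := by
        intro n hn b hb
        by_cases hb1 : b = 1
        · rw [hb1, mul_one, mul_inv_cancel]
          exact one_mem _
        · have h4 : b ∈ O := by
            rw [← heq, Finset.mem_erase, Finset.mem_filter]
            exact ⟨hb1, Finset.mem_univ _, hb⟩
          have h5 : n * b * n⁻¹ ∈ O := by
            refine (hO _).2 ⟨((hO b).1 h4).1.trans (isConj_iff.2 ⟨n, rfl⟩), ?_⟩
            exact (mem_normalizer_iff.1 hn b).1 (hP hb)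
          rw [← heq, Finset.mem_erase, Finset.mem_filter] at h5
          exact h5.2.2
      rcases Cfsg.Agent.H800.ME.Final.abIrr_model P hcomm (zpowers x) hP
        (fun b hb => hpow11 b (hP hb)) hinv with h3 | h3
      · have h4 : x ∈ (⊥ : Subgroup Gam) := h3 ▸ mem_zpowers x
        rw [mem_bot] at h4
        have := h.ord
        rw [h4, orderOf_one] at this
        norm_num at this
      · have h4 : (P : Subgroup Gam) ≤ zpowers x := fun a ha => h3 a ha (hpow11 a ha)
        have h5 := Subgroup.card_le_of_le h4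
        rw [hcard, Nat.card_zpowers, h.ord] at h5
        norm_num at h5
    omega
  have hOeq := Finset.eq_of_subset_of_card_le hOle (by rw [hPc, hO120])
  -- `g` is conjugate into `P`
  have hgp : IsPGroup 11 (zpowers g) := IsPGroup.of_card (n := 1) (by rw [Nat.card_zpowers, hg, pow_one])
  obtain ⟨Q, hQ⟩ := hgp.exists_le_sylow
  obtain ⟨c, hc⟩ := MulAction.exists_smul_eq Gam Q P
  have h1 : c * g * c⁻¹ ∈ (P : Subgroup Gam) := by
    rw [← hc, Sylow.coe_subgroup_smul, Subgroup.mem_pointwise_smul_iff_inv_smul_mem]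
    have h2 : (MulAut.conj c)⁻¹ • (c * g * c⁻¹) = g := by
      rw [← map_inv, MulAut.smul_def, MulAut.conj_apply]
      group
    rw [h2]
    exact hQ (mem_zpowers g)
  have h2 : c * g * c⁻¹ ∈ O := by
    rw [hOeq, Finset.mem_erase, Finset.mem_filter]
    refine ⟨?_, Finset.mem_univ _, h1⟩
    intro h3
    have h4 : g = 1 := by
      have h5 : c * g * c⁻¹ * c = 1 * c := by rw [h3]
      have h6 : c * g = c * 1 := by rw [inv_mul_cancel_right] at h5; rw [h5]; simp
      exact mul_left_cancel h6
    rw [h4, orderOf_one] at hg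
    norm_num at hg
  exact ((hO _).1 h2).1.trans (isConj_iff.2 ⟨c⁻¹, by group⟩)

end Cfsg.Agent.H436.M23.Pure
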