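import Cfsg.Agent.H436.M23.Abs
import Cfsg.Agent.H994.M23.SecFin

/-!
# The field `Sec11` for the Monster (helper436)

`el` : `C(x) = ⟨x⟩ × M₁₂` for every `x` of order 11; `out11` : `Out11`, from `MTwelveSide`.
-/

set_option autoImplicit false

namespace Cfsg.Agent.H436.M23.Out

open Cfsg Subgroup
open Cfsg.Agent.H241.Mon Cfsg.Agent.H66.M23.Loc
open Cfsg.Agent.H691.M23 (Five RV SecFacts)
open Cfsg.Agent.H994.M23.Fin (Out11 Out13 toSp loc11 secFacts_of)
open scoped ComplexConjugate

/-- **`C(x) = ⟨x⟩ × M₁₂` for every element `x` of order 11 of the Monster.** -/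
theorem el (hfac : (Nat.card Gam).factorization 11 = 2) {x : Gam} (hx : orderOf x = 11) :
    ∃ L : Subgroup Gam, Abs.El x L := by
  obtain ⟨⟨L, hL⟩, hpow⟩ := H66.M23.Eleven.all hx
  refine ⟨L, ?_⟩
  exact
    { sp := toSp hL
      pows := fun k hk => hpow k fun h => hk (Nat.dvd_of_mod_eq_zero h)
      norm := by
        intro g hg t ht
        have h1 : g * x * g⁻¹ ∈ zpowers x := (mem_normalizer_iff.1 hg x).1 (mem_zpowers x)
        obtain ⟨k, hk⟩ := mem_zpowers_iff.1 h1
        exact hL.conj_mem (by norm_num) hk.symm t ht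
      iso := hL.iso
      cj := fun g hg => H66.M23.Eleven.isConj hx hg
      fac := hfac }

theorem out11 (hS : MTwelveSide.{0}) [Fintype Gam] {u : Gam} {C T : Subgroup Gam} {θ : T → ℂ} {t y : T}
    (F : Five u C T θ t y) (X : IrrCharacter Gam) {d b w c : ℤ} (hd : (X : Gam → ℂ) 1 = d)
    (hb : (X : Gam → ℂ) t = b) (hc : c = 1 ∨ c = -1) (hw : centralChar (X : Gam → ℂ) (t : Gam) = w)
    (hv : ∀ s : T, ¬ 5 ∣ orderOf s → (X : Gam → ℂ) (u * s) = c * θ s) : Out11 (X : Gam → ℂ) c d b w := by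
  have hfac : (Nat.card Gam).factorization 11 = 2 := by
    rw [F.cardG]
    rw [show (808017424794512875886459904961710757005754368000000000 : ℕ) =
        11 ^ 2 * 6677829956979445255259999214559593033105408000000000 by norm_num,
      Nat.factorization_mul (by norm_num) (by norm_num), Nat.Prime.factorization_pow (by norm_num),
      Finsupp.add_apply, Finsupp.single_eq_same, Nat.factorization_eq_zero_of_not_dvd (by norm_num)]
  have hx : orderOf (y : Gam) = 11 := by rw [Subgroup.orderOf_coe, F.oy]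
  obtain ⟨L, hL⟩ := el hfac hx
  have hot : orderOf (t : Gam) = 2 := by rw [Subgroup.orderOf_coe, F.ot]
  have hyt : Commute (y : Gam) (t : Gam) := by
    have := F.comm.symm.eq
    exact congrArg Subtype.val this
  have hty : Commute (t : Gam) (y : Gam) := hyt.symm
  have hut : Commute u (t : Gam) := F.hyp.comm t
  have huy : Commute u (y : Gam) := F.hyp.comm y
  have hidx : 11 ∣ (centralizer ({(t : Gam)} : Set Gam)).index := by
    rw [H691.M23.index_eq (t : Gam) F.ct (m := 97239461142009186000) (by rw [F.cardG]) (by norm_num)]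
    norm_num
  have h5y : ¬ 5 ∣ orderOf y := by rw [F.oy]; norm_num
  have h5ty : ¬ 5 ∣ orderOf (t * y) := by
    intro h
    have h1 : orderOf (t * y) ∣ 22 := by
      apply orderOf_dvd_of_pow_eq_one
      rw [F.comm.mul_pow, show 22 = 2 * 11 from rfl, pow_mul, ← F.ot, pow_orderOf_eq_one, one_pow, one_mul,
        mul_comm (orderOf t), pow_mul]
      have h2 : y ^ 11 = 1 := by rw [← F.oy, pow_orderOf_eq_one]
      rw [h2, one_pow]
    have h3 := h.trans h1
    norm_num at h3
  have e1 : (X : Gam → ℂ) ((y : Gam) * u) = c := by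
    rw [← huy.eq, hv y h5y, F.vy, mul_one]
  have e2 : (X : Gam → ℂ) ((y : Gam) * ((t : Gam) * u)) = c := by
    have h1 : (y : Gam) * ((t : Gam) * u) = u * ((t * y : T) : Gam) := by
      rw [← hut.eq, ← mul_assoc, ← huy.eq, mul_assoc, hyt.eq, Subgroup.coe_mul]
    rw [h1, hv (t * y) h5ty, F.vty, mul_one]
  obtain ⟨n, h1, h2⟩ := hL.main hS X F.hyp.ord hot hut.symm huy.symm hyt hc hd hb hw hidx e1 e2
  exact ⟨n, h1, h2.ge⟩

/-- **The field `SecFacts`**, from the `M₁₂` side and the `13`-section. -/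
theorem secFacts (hS : MTwelveSide.{0}) [Fintype Gam] {u : Gam} {C T : Subgroup Gam} [Fintype T] {θ : T → ℂ}
    {t y : T} (F : Five u C T θ t y)
    (H13 : ∀ (X : IrrCharacter Gam) {d b : ℤ}, RV X → (X : Gam → ℂ) 1 = d → (X : Gam → ℂ) t = b →
      Out13 (X : Gam → ℂ) d b) : SecFacts u T θ t :=
  secFacts_of F loc11 (fun X _ _ _ _ _ hd hb hc hw hv => out11 hS F X hd hb hc hw hv) H13

end Cfsg.Agent.H436.M23.Out
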